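import Groth.Agent.Lib.AssPt.Basic
import Groth.Prelude.Def_MeroDiv
import Mathlib.AlgebraicGeometry.Noetherian

/-!
# Basics on the sheaf of meromorphic functions
-/

universe u

noncomputable section

open CategoryTheory AlgebraicGeometry TopologicalSpace Opposite

namespace Groth.Agent.Lib.MeroK.Basic

open Groth.Agent.Lib.Ideal.EffCartier Groth.Agent.Lib.AssPt.Basic Mero

variable {X : Scheme.{u}}

theorem algebraMap_eq_mk' {x : X} (a : X.presheaf.stalk x) :
    algebraMap (X.presheaf.stalk x) (KStalk X x) a = LocalizedModule.mk a 1 :=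
  rfl

theorem mk_eq_algebraMap_mul {x : X} (a : X.presheaf.stalk x) (b : regStalk X x) :
    (LocalizedModule.mk a b : KStalk X x) * algebraMap (X.presheaf.stalk x) (KStalk X x) b.1 =
      algebraMap (X.presheaf.stalk x) (KStalk X x) a := by
  rw [algebraMap_eq_mk', algebraMap_eq_mk']
  refine LocalizedModule.mk_mul_mk.trans ?_
  rw [LocalizedModule.mk_eq]
  exact ⟨1, by simp [Submonoid.smul_def, mul_comm]⟩

/-- Every section of `K_X` is locally a fraction `a / b`. -/
theorem exists_rep {U : X.Opens} (s : Γ(kmod X, U)) (x : U) :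
    ∃ (V : X.Opens) (hVU : V ≤ U) (_ : x.1 ∈ V) (a : Γ(X, V)) (b : regSub X V),
      ∀ y (hy : y ∈ V), s.1 ⟨y, hVU hy⟩ *
        algebraMap (X.presheaf.stalk y) (KStalk X y) (X.presheaf.germ V y hy b.1) =
          algebraMap (X.presheaf.stalk y) (KStalk X y) (X.presheaf.germ V y hy a) := by
  obtain ⟨V, hx, i, a, b, h⟩ := s.2 x
  refine ⟨V, i.le, hx, a, b, fun y hy => ?_⟩
  have := h ⟨y, hy⟩
  dsimp only at this
  change s.1 (i ⟨y, hy⟩) * _ = _
  rw [this]
  exact mk_eq_algebraMap_mul _ (regGerm ⟨y, hy⟩ b)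

theorem mul_algebraMap_regStalk_eq_zero_iff {x : X} {g : X.presheaf.stalk x}
    (hg : g ∈ regStalk X x) {z : KStalk X x} :
    z * algebraMap (X.presheaf.stalk x) (KStalk X x) g = 0 ↔ z = 0 :=
  (IsLocalization.map_units (KStalk X x) ⟨g, hg⟩).mul_left_eq_zero

theorem section_eq_zero_of_germs {U : X.Opens} (a : Γ(X, U))
    (h : ∀ x (hx : x ∈ U), X.presheaf.germ U x hx a = 0) : a = 0 :=
  TopCat.Presheaf.section_ext X.sheaf U a 0 fun x hx => by
    change X.presheaf.germ U x hx a = X.presheaf.germ U x hx 0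
    rw [map_zero, h x hx]

theorem kmod_res_apply {U V : X.Opens} (h : V ≤ U) (s : Γ(kmod X, U)) (y : X) (hy : y ∈ V) :
    ((kmod X).presheaf.map (homOfLE h).op s).1 ⟨y, hy⟩ = s.1 ⟨y, h hy⟩ := rfl

theorem kmod_zero_apply {U : X.Opens} (y : U) : (0 : Γ(kmod X, U)).1 y = 0 := rfl

theorem toK_eq_algebraMap {U : X.Opens} (a : Γ(X, U)) (y : U) :
    (toK X U a).1 y = algebraMap (X.presheaf.stalk y.1) (KStalk X y.1)
      (X.presheaf.germ U y.1 y.2 a) := rfl

/-- Restriction to a schematically dense open is injective on sections of `K_X`. -/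
theorem kmod_map_injective (U V : X.Opens) (hVU : V ≤ U)
    (hV : ∀ W : X.Opens, W ≤ U →
      Function.Injective ⇑(X.presheaf.map (homOfLE (inf_le_left : W ⊓ V ≤ W)).op)) :
    Function.Injective ⇑((kmod X).presheaf.map (homOfLE hVU).op) := by
  rw [injective_iff_map_eq_zero]
  intro s hs
  refine Subtype.ext (funext fun x => ?_)
  obtain ⟨W, hWU, hxW, a, b, h⟩ := exists_rep s x
  have ha : a = 0 := by
    refine hV W hWU ?_
    rw [map_zero]
    refine section_eq_zero_of_germs _ fun y hy => ?_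
    rw [TopCat.Presheaf.germ_res_apply]
    refine (injective_iff_map_eq_zero _).mp (algebraMap_KStalk_injective y) _ ?_
    rw [← h y hy.1]
    have h0 : s.1 ⟨y, hVU hy.2⟩ = 0 := by
      rw [← kmod_res_apply hVU s y hy.2, hs]
      rfl
    change s.1 ⟨y, hVU hy.2⟩ * _ = 0
    rw [h0, zero_mul]
  have h1 := h x.1 hxW
  rw [ha, map_zero, map_zero, mul_algebraMap_regStalk_eq_zero_iff
    (germ_mem_regStalk ⟨x.1, hxW⟩ b.2)] at h1
  exact h1

/-- On a locally Noetherian scheme every nonzerodivisor of a local ring is the germ of a regular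
section. -/
theorem regStalk_eq_nonZeroDivisors [IsLocallyNoetherian X] (x : X) :
    regStalk X x = nonZeroDivisors (X.presheaf.stalk x) := by
  refine le_antisymm (regStalk_le_nonZeroDivisors x) fun g hg => ?_
  obtain ⟨W, hxW, s, rfl⟩ := X.presheaf.exists_germ_eq g
  obtain ⟨U, hU, hxU, hle⟩ := exists_isAffineOpen_mem_and_subset hxW
  have hUW : U ≤ W := fun z hz => hle hz
  rw [← TopCat.Presheaf.germ_res_apply X.presheaf (homOfLE hUW) x hxU] at hg ⊢
  set s' := X.presheaf.map (homOfLE hUW).op s with hs'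
  haveI : IsNoetherianRing Γ(X, U) := IsLocallyNoetherian.component_noetherian ⟨U, hU⟩
  let algx := X.presheaf.algebra_section_stalk ⟨x, hxU⟩
  haveI := hU.isLocalization_stalk ⟨x, hxU⟩
  set J : Ideal Γ(X, U) := LinearMap.ker (LinearMap.mulLeft Γ(X, U) s') with hJ
  obtain ⟨T, hT⟩ := IsNoetherian.noetherian J
  have hex : ∀ t ∈ T, ∃ u : (hU.primeIdealOf ⟨x, hxU⟩).asIdeal.primeCompl, u.1 * t = 0 := by
    intro t ht
    have htJ : s' * t = 0 := by
      have : t ∈ J := hT ▸ Submodule.subset_span ht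
      simpa [hJ] using this
    refine (IsLocalization.map_eq_zero_iff _ (X.presheaf.stalk x) t).mp
      ((mul_left_mem_nonZeroDivisors_eq_zero_iff hg).mp ?_)
    change algebraMap Γ(X, U) (X.presheaf.stalk x) s' * _ = 0
    rw [← map_mul, htJ, map_zero]
  choose u hu using hex
  let w : (hU.primeIdealOf ⟨x, hxU⟩).asIdeal.primeCompl := ∏ t ∈ T.attach, u t.1 t.2
  have hw : ∀ t ∈ J, w.1 * t = 0 := by
    intro t ht
    rw [← hT] at ht
    induction ht using Submodule.span_induction with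
    | mem t ht =>
      have hdvd : u t ht ∣ w := Finset.dvd_prod_of_mem _ (Finset.mem_attach T ⟨t, ht⟩)
      obtain ⟨c, hc⟩ := hdvd
      rw [hc, Submonoid.coe_mul, mul_right_comm, hu t ht, zero_mul]
    | zero => exact mul_zero _
    | add a b _ _ iha ihb => rw [mul_add, iha, ihb, add_zero]
    | smul r a _ ih => rw [smul_eq_mul, mul_left_comm, ih, mul_zero]
  have hxB : x ∈ X.basicOpen w.1 :=
    (mem_basicOpen_iff_notMem_prime hU hxU _).mpr w.2
  have hBU : X.basicOpen w.1 ≤ U := X.basicOpen_le _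
  have hreg : X.presheaf.map (homOfLE hBU).op s' ∈ nonZeroDivisors Γ(X, X.basicOpen w.1) := by
    refine mem_nonZeroDivisors_of_eq_zero fun b hb => ?_
    haveI := hU.isLocalization_basicOpen w.1
    obtain ⟨c, ⟨e, n, rfl⟩, rfl⟩ := IsLocalization.exists_mk'_eq (Submonoid.powers w.1) b
    change algebraMap Γ(X, U) Γ(X, X.basicOpen w.1) s' * _ = 0 at hb
    rw [IsLocalization.mul_mk'_eq_mk'_of_mul, IsLocalization.mk'_eq_zero_iff] at hb
    obtain ⟨⟨e, m, rfl⟩, hm⟩ := hb
    have hz : w.1 * (w.1 ^ m * c) = 0 :=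
      hw _ (by simp only [hJ, LinearMap.mem_ker, LinearMap.mulLeft_apply]
               rw [mul_left_comm]; exact hm)
    rw [IsLocalization.mk'_eq_zero_iff]
    exact ⟨⟨w.1 ^ (m + 1), m + 1, rfl⟩, by simp only; rw [pow_succ', mul_assoc]; exact hz⟩
  refine ⟨X.basicOpen w.1, hxB, X.presheaf.map (homOfLE hBU).op s',
    fun y => germ_mem_nonZeroDivisors (hU.basicOpen w.1) hreg y.1 y.2, ?_⟩
  rw [TopCat.Presheaf.germ_res_apply]

/-- If all elements of `S_x` are units then every germ of divisor at `x` is trivial. -/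
theorem germ_eq_one_of_isUnit (x : X) (h : ∀ g ∈ regStalk X x, IsUnit g) (D : Germ X x) :
    D = 1 := by
  induction D using QuotientGroup.induction_on with
  | H g =>
    rw [QuotientGroup.eq_one_iff]
    obtain ⟨a, s, he⟩ := IsLocalization.exists_mk'_eq (regStalk X x) (g : KStalk X x)
    obtain ⟨c, hc⟩ := h s.1 s.2
    have hga : (g : KStalk X x) =
        algebraMap (X.presheaf.stalk x) (KStalk X x) (a * (↑c⁻¹ : X.presheaf.stalk x)) := by
      rw [← he, IsLocalization.mk'_eq_iff_eq_mul, ← map_mul]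
      congr 1
      rw [← hc, mul_assoc, Units.inv_mul, mul_one]
    have hu : IsUnit (a * (↑c⁻¹ : X.presheaf.stalk x)) := by
      obtain ⟨a', s', he'⟩ := IsLocalization.exists_mk'_eq (regStalk X x) (↑g⁻¹ : KStalk X x)
      obtain ⟨c', hc'⟩ := h s'.1 s'.2
      refine IsUnit.of_mul_eq_one (a' * (↑c'⁻¹ : X.presheaf.stalk x))
        (algebraMap_KStalk_injective x ?_)
      have hga' : (↑g⁻¹ : KStalk X x) =
          algebraMap (X.presheaf.stalk x) (KStalk X x) (a' * (↑c'⁻¹ : X.presheaf.stalk x)) := by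
        rw [← he', IsLocalization.mk'_eq_iff_eq_mul, ← map_mul]
        congr 1
        rw [← hc', mul_assoc, Units.inv_mul, mul_one]
      rw [map_mul, ← hga, ← hga', Units.mul_inv, map_one]
    exact ⟨hu.unit, Units.ext hga.symm⟩

end Groth.Agent.Lib.MeroK.Basic
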