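import Groth.Agent.Lib.MeroK.RegMero
import Groth.Agent.Lib.Modules.StalkModule
import Groth.Agent.Lib.Modules.Stalk

/-!
# The fractional ideal of a divisor
-/

universe u

noncomputable section

open CategoryTheory AlgebraicGeometry TopologicalSpace Opposite

namespace Groth.Agent.Lib.MeroK.DivMod

open Groth.Agent.Lib.AssPt.Basic Groth.Agent.Lib.MeroK.Basic Mero
open Groth.Agent.Lib.TensorMod.Dual Groth.Agent.Lib.TensorMod.Gen

variable {X : Scheme.{u}}

/-- A meromorphic function with values in the local rings is a function. -/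
theorem exists_toK {V : X.Opens} (s : Γ(kmod X, V))
    (h : ∀ y : V, s.1 y ∈ (algebraMap (X.presheaf.stalk y.1) (KStalk X y.1)).range) :
    ∃ a : Γ(X, V), toK X V a = s := by
  choose r hr using h
  have hloc : ∀ x : V, ∃ (W : X.Opens) (hW : W ≤ V), x.1 ∈ W ∧ ∃ c : Γ(X, W),
      ∀ y (hy : y ∈ W), X.presheaf.germ W y hy c = r ⟨y, hW hy⟩ := by
    intro x
    obtain ⟨W, hW, hxW, a, b, hab⟩ := exists_rep s x
    obtain ⟨W', hxW', c, hc⟩ := X.presheaf.exists_germ_eq (r x)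
    have hgb : ∀ y (hy : y ∈ W), r ⟨y, hW hy⟩ * X.presheaf.germ W y hy b.1 =
        X.presheaf.germ W y hy a := fun y hy => by
      refine algebraMap_KStalk_injective y ?_
      rw [map_mul, hr ⟨y, hW hy⟩, hab y hy]
    have hx : X.presheaf.germ (W ⊓ W') x.1 ⟨hxW, hxW'⟩
        (rf (inf_le_right : W ⊓ W' ≤ W') c * rf (inf_le_left : W ⊓ W' ≤ W) b.1) =
          X.presheaf.germ (W ⊓ W') x.1 ⟨hxW, hxW'⟩ (rf inf_le_left a) := by
      simp only [map_mul, RegMero.germ_rf, hc]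
      exact hgb x.1 hxW
    obtain ⟨T, hxT, i, j, hij⟩ := TopCat.Presheaf.germ_eq X.presheaf x.1 _ _ _ _ hx
    have hTW : T ≤ W := i.le.trans inf_le_left
    have hTW' : T ≤ W' := i.le.trans inf_le_right
    refine ⟨T, hTW.trans hW, hxT, rf hTW' c, fun y hy => ?_⟩
    have h1 := congrArg (X.presheaf.germ T y hy) hij
    simp only [TopCat.Presheaf.germ_res_apply, map_mul, RegMero.germ_rf] at h1
    rw [← hgb y (hTW hy)] at h1
    rw [RegMero.germ_rf]
    exact (mul_cancel_right_mem_nonZeroDivisors (b.2 ⟨y, hTW hy⟩)).mp h1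
  choose W hWV hxW c hc using hloc
  obtain ⟨a, ha, -⟩ := TopCat.Sheaf.existsUnique_gluing' X.sheaf W V (fun x => homOfLE (hWV x))
    (fun x hx => Opens.mem_iSup.mpr ⟨⟨x, hx⟩, hxW ⟨x, hx⟩⟩) c fun i j => by
      refine TopCat.Presheaf.section_ext X.sheaf _ _ _ fun y hy => ?_
      change X.presheaf.germ _ y hy (X.presheaf.map _ (c i)) =
        X.presheaf.germ _ y hy (X.presheaf.map _ (c j))
      rw [TopCat.Presheaf.germ_res_apply, TopCat.Presheaf.germ_res_apply, hc, hc]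
  refine ⟨a, Subtype.ext (funext fun y => ?_)⟩
  rw [toK_eq_algebraMap, ← hr y]
  refine congrArg _ ?_
  have h1 := congrArg (X.presheaf.germ (W y) y.1 (hxW y)) (ha y)
  change X.presheaf.germ (W y) y.1 _ (X.presheaf.map _ a) = _ at h1
  rw [TopCat.Presheaf.germ_res_apply, hc] at h1
  exact h1

theorem smul_eq_algebraMap_mul {x : X} (r : X.presheaf.stalk x) (t : KStalk X x) :
    r • t = algebraMap (X.presheaf.stalk x) (KStalk X x) r * t :=
  Algebra.smul_def r t

variable (D : Divisor X)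

/-- On an open where `D` is the divisor of `f`, the section `f⁻¹` generates `O_X(D)`. -/
theorem exists_gen {U : X.Opens} (f : (Γ(kmod X, U))ˣ) (hf : ∀ y : U, D.1 y.1 = germOf f y) :
    ∃ e : Γ(divMod D, U), IsGen (divMod D) U e ∧
      ∀ y : U, e.1 y = (↑f⁻¹ : Γ(kmod X, U)).1 y := by
  have hinv : ∀ y : U, (↑f⁻¹ : Γ(kmod X, U)).1 y * (↑f : Γ(kmod X, U)).1 y = 1 := fun y => by
    rw [← kmod_mul_apply, Units.inv_mul, kmod_one_apply]
  refine ⟨⟨(↑f⁻¹ : Γ(kmod X, U)).1, (↑f⁻¹ : Γ(kmod X, U)).2, fun y g hg => ?_⟩, ?_, fun y => rfl⟩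
  · rw [hf y, QuotientGroup.eq] at hg
    obtain ⟨w, hw⟩ := hg
    refine ⟨w, ?_⟩
    have := congrArg Units.val hw
    rw [Units.val_mul, ← map_inv, Units.coe_map] at this
    exact this
  intro V hV
  constructor
  · intro a a' h
    refine TopCat.Presheaf.section_ext X.sheaf V a a' fun y hy => algebraMap_KStalk_injective y ?_
    have h1 : X.presheaf.germ V y hy a • (↑f⁻¹ : Γ(kmod X, U)).1 ⟨y, hV hy⟩ =
        X.presheaf.germ V y hy a' • (↑f⁻¹ : Γ(kmod X, U)).1 ⟨y, hV hy⟩ :=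
      congrFun (congrArg Subtype.val h) ⟨y, hy⟩
    rw [smul_eq_algebraMap_mul, smul_eq_algebraMap_mul] at h1
    have h2 := congrArg (· * (↑f : Γ(kmod X, U)).1 ⟨y, hV hy⟩) h1
    simp only [mul_assoc, hinv ⟨y, hV hy⟩, mul_one] at h2
    exact h2
  · intro t
    let tk : Γ(kmod X, V) := ⟨t.1, t.2.1⟩
    let fk : Γ(kmod X, V) := (kmod X).presheaf.map (homOfLE hV).op (↑f : Γ(kmod X, U))
    obtain ⟨a, ha⟩ := exists_toK (tk * fk) fun y => by
      exact t.2.2 y (Units.map (evalK X U ⟨y.1, hV y.2⟩).toMonoidHom f) (hf ⟨y.1, hV y.2⟩)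
    refine ⟨a, Subtype.ext (funext fun y => ?_)⟩
    have h1 := congrFun (congrArg Subtype.val ha) y
    rw [toK_eq_algebraMap, kmod_mul_apply] at h1
    change X.presheaf.germ V y.1 y.2 a • (↑f⁻¹ : Γ(kmod X, U)).1 ⟨y.1, hV y.2⟩ = t.1 y
    rw [smul_eq_algebraMap_mul, h1]
    change t.1 y * (↑f : Γ(kmod X, U)).1 ⟨y.1, hV y.2⟩ * _ = _
    rw [mul_assoc, mul_comm ((↑f : Γ(kmod X, U)).1 ⟨y.1, hV y.2⟩), hinv ⟨y.1, hV y.2⟩, mul_one]

theorem isInvertible_divMod : PicF.IsInvertible (divMod D) := by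
  rw [isInvertible_iff]
  intro x
  obtain ⟨U, hx, f, hf⟩ := D.2 x
  obtain ⟨e, he, -⟩ := exists_gen D f hf
  exact ⟨U, e, hx, he⟩

/-- A locally free of rank one submodule of `K_X` is locally generated by a unit. -/
theorem exists_unit_gen {J : X.Modules} (ι : J ⟶ kmod X) [Mono ι] {U : X.Opens} {e : Γ(J, U)}
    (he : IsGen J U e) {x : X} (hx : x ∈ U) :
    ∃ (W : X.Opens) (hW : W ≤ U) (_ : x ∈ W) (f : (Γ(kmod X, W))ˣ),
      (f : Γ(kmod X, W)) = ι.app W (rs J hW e) := by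
  have hinj := fun V : X.Opens => (Modules.Stalk.mono_iff_app_injective ι).mp inferInstance V
  obtain ⟨W, hW, hxW, a, b, hab⟩ := exists_rep (ι.app U e) ⟨x, hx⟩
  have hval : ∀ y (hy : y ∈ W), (ι.app W (rs J hW e)).1 ⟨y, hy⟩ = (ι.app U e).1 ⟨y, hW hy⟩ := by
    intro y hy
    have h1 : ι.app W (rs J hW e) = (kmod X).presheaf.map (homOfLE hW).op (ι.app U e) :=
      PresheafOfModules.naturality_apply ι.val (homOfLE hW).op e
    rw [h1]
    rfl
  have ha : a ∈ regSub X W := by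
    intro z
    refine Ideal.EffCartier.mem_nonZeroDivisors_of_eq_zero fun c hc => ?_
    obtain ⟨V, hzV, γ, rfl⟩ := X.presheaf.exists_germ_eq c
    have hz0 : X.presheaf.germ (W ⊓ V) z.1 ⟨z.2, hzV⟩ (rf inf_le_left a * rf inf_le_right γ) =
        X.presheaf.germ (W ⊓ V) z.1 ⟨z.2, hzV⟩ 0 := by
      simp only [map_mul, map_zero, RegMero.germ_rf]
      exact hc
    obtain ⟨T, hzT, i, j, hij⟩ := TopCat.Presheaf.germ_eq X.presheaf z.1 _ _ _ _ hz0
    have hTW : T ≤ W := i.le.trans inf_le_left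
    have hTV : T ≤ V := i.le.trans inf_le_right
    have h0 : rf hTV γ = 0 := by
      refine (he T (hTW.trans hW)).1 (hinj T ?_)
      simp only [zero_smul, map_zero]
      rw [Scheme.Modules.Hom.app_smul]
      refine Subtype.ext (funext fun y => ?_)
      change X.presheaf.germ T y.1 y.2 (rf hTV γ) • (ι.app T (rs J (hTW.trans hW) e)).1 y = 0
      have h1 : ι.app T (rs J (hTW.trans hW) e) =
          (kmod X).presheaf.map (homOfLE (hTW.trans hW)).op (ι.app U e) :=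
        PresheafOfModules.naturality_apply ι.val (homOfLE (hTW.trans hW)).op e
      rw [h1, smul_eq_algebraMap_mul]
      refine (mul_algebraMap_regStalk_eq_zero_iff (germ_mem_regStalk ⟨y.1, hTW y.2⟩ b.2)).mp ?_
      rw [mul_assoc]
      refine (congrArg _ (hab y.1 (hTW y.2))).trans ?_
      have h2 := congrArg (X.presheaf.germ T y.1 y.2) hij
      simp only [TopCat.Presheaf.germ_res_apply, map_mul, map_zero, RegMero.germ_rf] at h2
      rw [RegMero.germ_rf, ← map_mul, mul_comm, h2, map_zero]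
    rw [← RegMero.germ_rf hTV hzT γ, h0, map_zero]
  refine ⟨W, hW, hxW, (Affine.isUnit_toK ha).unit * (Affine.isUnit_toK b.2).unit⁻¹, ?_⟩
  rw [Units.val_mul, Units.mul_inv_eq_iff_eq_mul, IsUnit.unit_spec, IsUnit.unit_spec]
  refine Subtype.ext (funext fun y => ?_)
  rw [kmod_mul_apply, toK_eq_algebraMap, toK_eq_algebraMap, hval y.1 y.2, hab y.1 y.2]

end Groth.Agent.Lib.MeroK.DivMod
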