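import Groth.Agent.Lib.MeroK.Affine
import Groth.Agent.Lib.TensorMod.Gen
import Mathlib.RingTheory.Nilpotent.Lemmas

/-!
# Regular meromorphic sections of invertible modules
-/

universe u

noncomputable section

open CategoryTheory AlgebraicGeometry TopologicalSpace Opposite

namespace Groth.Agent.Lib.MeroK.RegMero

open Groth.Agent.Lib.Ideal.EffCartier Groth.Agent.Lib.AssPt.Basic Groth.Agent.Lib.MeroK.Basic Mero
open Groth.Agent.Lib.TensorMod.Dual Groth.Agent.Lib.TensorMod.Gen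

variable {X : Scheme.{u}} {L : X.Modules}

theorem germ_rs {U V : X.Opens} (h : V ≤ U) {y : X} (hy : y ∈ V) (m : Γ(L, U)) :
    L.presheaf.germ V y hy (rs L h m) = L.presheaf.germ U y (h hy) m :=
  TopCat.Presheaf.germ_res_apply _ _ _ _ _

theorem germ_rf {U V : X.Opens} (h : V ≤ U) {y : X} (hy : y ∈ V) (m : Γ(X, U)) :
    X.presheaf.germ V y hy (rf h m) = X.presheaf.germ U y (h hy) m :=
  TopCat.Presheaf.germ_res_apply _ _ _ _ _

/-- A generator gives a basis of each stalk. -/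
theorem stalk_gen {U : X.Opens} {e : Γ(L, U)} (he : IsGen L U e) {y : X} (hy : y ∈ U) :
    Function.Bijective fun a : X.presheaf.stalk y => a • L.presheaf.germ U y hy e := by
  refine ⟨fun a b hab => ?_, fun z => ?_⟩
  · obtain ⟨V, hyV, c, hc⟩ := X.presheaf.exists_germ_eq (a - b)
    have h0 : (a - b) • L.presheaf.germ U y hy e = 0 := by
      simp only at hab
      rw [sub_smul, hab, sub_self]
    rw [← hc, ← germ_rf (inf_le_left : V ⊓ U ≤ V) ⟨hyV, hy⟩ c,
      ← germ_rs (inf_le_right : V ⊓ U ≤ U) ⟨hyV, hy⟩ e, ← Mero.germ_smul,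
      ← map_zero (L.presheaf.germ (V ⊓ U) y ⟨hyV, hy⟩).hom] at h0
    obtain ⟨W, hyW, i, j, hij⟩ := TopCat.Presheaf.germ_eq L.presheaf y _ _ _ _ h0
    rw [map_zero] at hij
    change rs L i.le _ = 0 at hij
    rw [rs_smul, rs_rs] at hij
    have hc0 : rf i.le (rf (inf_le_left : V ⊓ U ≤ V) c) = 0 :=
      (he W (i.le.trans inf_le_right)).1 (by simp only [zero_smul]; exact hij)
    have h1 := congrArg (X.presheaf.germ W y hyW) hc0
    rw [germ_rf, germ_rf, map_zero, hc] at h1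
    exact sub_eq_zero.mp h1
  · obtain ⟨V, hyV, m, rfl⟩ := L.presheaf.exists_germ_eq z
    obtain ⟨a, ha⟩ := (he (V ⊓ U) inf_le_right).2 (rs L (inf_le_left : V ⊓ U ≤ V) m)
    refine ⟨X.presheaf.germ (V ⊓ U) y ⟨hyV, hy⟩ a, ?_⟩
    have h1 := congrArg (L.presheaf.germ (V ⊓ U) y ⟨hyV, hy⟩) ha
    simp only [Mero.germ_smul, germ_rs] at h1
    exact h1

/-- A section of an invertible module vanishing at all associated points has vanishing germs. -/
theorem germ_eq_zero_of_maxAssoc (hL : PicF.IsInvertible L) {W : X.Opens} (t : Γ(L, W))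
    (h : ∀ y (hy : y ∈ W), MaxAssoc (X.presheaf.stalk y) → L.presheaf.germ W y hy t = 0)
    {x : X} (hx : x ∈ W) : L.presheaf.germ W x hx t = 0 := by
  obtain ⟨U, e, hxU, he⟩ := isInvertible_iff.mp hL x
  obtain ⟨a, ha⟩ := (he (W ⊓ U) inf_le_right).2 (rs L (inf_le_left : W ⊓ U ≤ W) t)
  simp only at ha
  have key : ∀ y (hy : y ∈ W ⊓ U), L.presheaf.germ W y hy.1 t =
      X.presheaf.germ (W ⊓ U) y hy a • L.presheaf.germ U y hy.2 e := fun y hy => by
    rw [← germ_rs (inf_le_left : W ⊓ U ≤ W) hy t, ← ha, Mero.germ_smul, germ_rs]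
  have ha0 : a = 0 := eq_zero_of_germ_eq_zero_maxAssoc a fun y hy hass => by
    refine (stalk_gen he hy.2).1 ?_
    simp only [zero_smul]
    rw [← key y hy]
    exact h y hy.1 hass
  rw [key x ⟨hx, hxU⟩, ha0, map_zero, zero_smul]

variable (g : ∀ y : X, L.presheaf.stalk y)

/-- A local fraction agreeing with given germs at the associated points. -/
structure Rep (x : X) where
  W : X.Opens
  mem : x ∈ W
  m : Γ(L, W)
  b : regSub X W
  eq : ∀ y (hy : y ∈ W), MaxAssoc (X.presheaf.stalk y) →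
    L.presheaf.germ W y hy m = X.presheaf.germ W y hy b.1 • g y

variable {g}

theorem rep_unique (hL : PicF.IsInvertible L) {x x' : X} (R : Rep g x) (R' : Rep g x') {y : X}
    (hy : y ∈ R.W) (hy' : y ∈ R'.W) :
    LocalizedModule.mk (L.presheaf.germ R.W y hy R.m) (regGerm ⟨y, hy⟩ R.b) =
      LocalizedModule.mk (L.presheaf.germ R'.W y hy' R'.m) (regGerm ⟨y, hy'⟩ R'.b) := by
  rw [LocalizedModule.mk_eq]
  refine ⟨1, ?_⟩
  rw [one_smul, one_smul]
  change X.presheaf.germ R'.W y hy' R'.b.1 • L.presheaf.germ R.W y hy R.m =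
    X.presheaf.germ R.W y hy R.b.1 • L.presheaf.germ R'.W y hy' R'.m
  let t : Γ(L, R.W ⊓ R'.W) := rf (inf_le_right : R.W ⊓ R'.W ≤ R'.W) R'.b.1 • rs L inf_le_left R.m -
    rf (inf_le_left : R.W ⊓ R'.W ≤ R.W) R.b.1 • rs L inf_le_right R'.m
  have key : ∀ z (hz : z ∈ R.W ⊓ R'.W), L.presheaf.germ (R.W ⊓ R'.W) z hz t =
      X.presheaf.germ R'.W z hz.2 R'.b.1 • L.presheaf.germ R.W z hz.1 R.m -
        X.presheaf.germ R.W z hz.1 R.b.1 • L.presheaf.germ R'.W z hz.2 R'.m := fun z hz => by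
    simp only [t, map_sub, Mero.germ_smul, germ_rf, germ_rs]
  have h0 := germ_eq_zero_of_maxAssoc hL t (fun z hz hass => by
    rw [key z hz, R.eq z hz.1 hass, R'.eq z hz.2 hass, smul_smul, smul_smul, mul_comm, sub_self])
    (x := y) ⟨hy, hy'⟩
  rw [key] at h0
  exact sub_eq_zero.mp h0

/-- The meromorphic section with given local fractions. -/
theorem hasRegularMero_of_reps (hL : PicF.IsInvertible L)
    (hgen : ∀ y : X, MaxAssoc (X.presheaf.stalk y) →
      Function.Injective fun a : X.presheaf.stalk y => a • g y)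
    (hrep : ∀ x : X, Nonempty (Rep g x)) : HasRegularMero L := by
  let R : ∀ x : X, Rep g x := fun x => (hrep x).some
  let f : ∀ x : (⊤ : X.Opens), MStalk L x.1 := fun x =>
    LocalizedModule.mk (L.presheaf.germ (R x).W x.1 (R x).mem (R x).m)
      (regGerm ⟨x.1, (R x).mem⟩ (R x).b)
  refine ⟨⟨f, fun x => ⟨(R x).W, (R x).mem, homOfLE le_top, (R x).m, (R x).b, fun y =>
    rep_unique hL (R y.1) (R x) (R y.1).mem y.2⟩⟩, fun x q hq => ?_⟩
  induction q using LocalizedModule.induction_on with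
  | h a c =>
    change (Localization.mk a c : KStalk X x) • f ⟨x, Opens.mem_top x⟩ = 0 at hq
    simp only [f] at hq
    rw [LocalizedModule.mk_smul_mk] at hq
    have hq' := (LocalizedModule.mk_eq.mp (hq.trans (LocalizedModule.zero_mk 1).symm))
    obtain ⟨u, hu⟩ := hq'
    simp only [smul_zero, one_smul, Submonoid.smul_def] at hu
    have hunit : a • L.presheaf.germ (R x).W x (R x).mem (R x).m = 0 := by
      obtain ⟨U, e, hxU, he⟩ := isInvertible_iff.mp hL x
      obtain ⟨d, hd⟩ := (stalk_gen he hxU).2 (a • L.presheaf.germ (R x).W x (R x).mem (R x).m)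
      simp only at hd
      rw [← hd, smul_smul] at hu
      have hd0 : (u : X.presheaf.stalk x) * d = 0 :=
        (stalk_gen he hxU).1 (by simp only [zero_smul]; exact hu)
      rw [← hd, (mul_left_mem_nonZeroDivisors_eq_zero_iff
        (regStalk_le_nonZeroDivisors x u.2)).mp hd0, zero_smul]
    obtain ⟨V, hxV, α, rfl⟩ := X.presheaf.exists_germ_eq a
    rw [← germ_rf (inf_le_left : V ⊓ (R x).W ≤ V) ⟨hxV, (R x).mem⟩ α,
      ← germ_rs (inf_le_right : V ⊓ (R x).W ≤ (R x).W) ⟨hxV, (R x).mem⟩ (R x).m,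
      ← Mero.germ_smul, ← map_zero (L.presheaf.germ (V ⊓ (R x).W) x ⟨hxV, (R x).mem⟩).hom]
      at hunit
    obtain ⟨T, hxT, i, j, hij⟩ := TopCat.Presheaf.germ_eq L.presheaf x _ _ _ _ hunit
    rw [map_zero] at hij
    have hTV : T ≤ V := i.le.trans inf_le_left
    have hTW : T ≤ (R x).W := i.le.trans inf_le_right
    have h0 : rf hTV α = 0 := eq_zero_of_germ_eq_zero_maxAssoc _ fun y hy hass => by
      have h1 := congrArg (L.presheaf.germ T y hy) hij
      change L.presheaf.germ T y hy (rs L i.le _) = _ at h1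
      rw [map_zero, germ_rs, Mero.germ_smul, germ_rf, germ_rs, (R x).eq y (hTW hy) hass,
        smul_smul] at h1
      have h2 : X.presheaf.germ V y (hTV hy) α * X.presheaf.germ (R x).W y (hTW hy) (R x).b.1 = 0 :=
        hgen y hass (by simp only [zero_smul]; exact h1)
      rw [germ_rf]
      exact (isUnit_of_nzd_of_maxAssoc hass ((R x).b.2 ⟨y, hTW hy⟩)).mul_left_eq_zero.mp h2
    have hz : X.presheaf.germ V x hxV α = 0 := by
      rw [← germ_rf hTV hxT α, h0, map_zero]
    rw [hz]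
    exact LocalizedModule.zero_mk c

/-- Maximal points have nilpotent maximal ideal. -/
theorem isNilpotent_of_maximalPoint {U : X.Opens} (hU : IsAffineOpen U) {y : X} (hy : y ∈ U)
    (hmax : ∀ z : X, z ⤳ y → z = y) {a : Γ(X, U)}
    (ha : a ∈ (hU.primeIdealOf ⟨y, hy⟩).asIdeal) :
    IsNilpotent (X.presheaf.germ U y hy a) := by
  letI := X.presheaf.algebra_section_stalk ⟨y, hy⟩
  haveI := hU.isLocalization_stalk ⟨y, hy⟩
  set P := (hU.primeIdealOf ⟨y, hy⟩).asIdeal
  rw [nilpotent_iff_mem_prime]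
  intro Q hQ
  have hm := (maximalPoint_iff_minimalPrime hU hy).mp hmax
  rw [minimalPrimes_eq_minimals] at hm
  exact (hm.2 (inferInstanceAs (Q.comap (algebraMap Γ(X, U) (X.presheaf.stalk y))).IsPrime)
    ((Ideal.comap_mono (IsLocalRing.le_maximalIdeal hQ.ne_top)).trans
      (IsLocalization.AtPrime.under_maximalIdeal (X.presheaf.stalk y) P).le) ha :)

/-- **Regular meromorphic sections exist** without embedded points. -/
theorem hasRegularMero_of_maximal (hL : PicF.IsInvertible L)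
    (ha : ∀ x : X, MaxAssoc (X.presheaf.stalk x) → ∀ y : X, y ⤳ x → y = x)
    (hb : ∀ U : X.Opens, IsAffineOpen U →
      {y : X | y ∈ U ∧ ∀ z : X, z ⤳ y → z = y}.Finite) : HasRegularMero L := by
  classical
  choose Ug eg hUg heg using isInvertible_iff.mp hL
  let g : ∀ y : X, L.presheaf.stalk y := fun y => L.presheaf.germ (Ug y) y (hUg y) (eg y)
  refine hasRegularMero_of_reps (g := g) hL (fun y _ => (stalk_gen (heg y) (hUg y)).1) fun x => ?_
  obtain ⟨W, hW, hxW, hle⟩ := exists_isAffineOpen_mem_and_subset (hUg x)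
  have hWU : W ≤ Ug x := fun z hz => hle hz
  let e : Γ(L, W) := rs L hWU (eg x)
  have he : IsGen L W e := (heg x).res hWU
  let F := (hb W hW).toFinset
  have hF : ∀ {y}, y ∈ F ↔ y ∈ W ∧ ∀ z : X, z ⤳ y → z = y := fun {y} => (hb W hW).mem_toFinset
  let P : F → Ideal Γ(X, W) := fun i => (hW.primeIdealOf ⟨i.1, (hF.mp i.2).1⟩).asIdeal
  have hh : ∀ i : F, ∃ h : Γ(X, W), h ∉ P i ∧ ∀ j : F, j ≠ i →
      X.presheaf.germ W j.1 (hF.mp j.2).1 h = 0 := by
    intro i
    have hj : ∀ j : F, ∃ a : Γ(X, W), a ∉ P i ∧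
        (j ≠ i → X.presheaf.germ W j.1 (hF.mp j.2).1 a = 0) := by
      intro j
      by_cases hji : j = i
      · exact ⟨1, fun h => (hW.primeIdealOf _).isPrime.ne_top ((Ideal.eq_top_iff_one _).mpr h),
          fun h => absurd hji h⟩
      obtain ⟨a, haj, hai⟩ : ∃ a ∈ P j, a ∉ P i := by
        by_contra hc
        push Not at hc
        exact hji (Subtype.ext ((hF.mp i.2).2 j.1
          ((specializes_iff_primeIdealOf hW (hF.mp i.2).1 (hF.mp j.2).1).mpr hc)))
      obtain ⟨n, hn⟩ := isNilpotent_of_maximalPoint hW (hF.mp j.2).1 (hF.mp j.2).2 haj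
      exact ⟨a ^ n, fun h => hai ((hW.primeIdealOf _).isPrime.mem_of_pow_mem n h),
        fun _ => by rw [map_pow, hn]⟩
    choose a hai haj using hj
    refine ⟨∏ j, a j, fun h => ?_, fun j hji => ?_⟩
    · obtain ⟨j, -, hj⟩ := ((hW.primeIdealOf ⟨i.1, (hF.mp i.2).1⟩).isPrime.prod_mem_iff).mp h
      exact hai j hj
    · rw [map_prod]
      exact Finset.prod_eq_zero (Finset.mem_univ j) (haj j hji)
  choose h hhi hhj using hh
  have hc : ∀ i : F, ∃ b m : Γ(X, W), b ∉ P i ∧
      X.presheaf.germ W i.1 (hF.mp i.2).1 m • L.presheaf.germ W i.1 (hF.mp i.2).1 e =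
        X.presheaf.germ W i.1 (hF.mp i.2).1 b • g i.1 := by
    intro i
    obtain ⟨c, hc⟩ := (stalk_gen he (hF.mp i.2).1).2 (g i.1)
    simp only at hc
    letI := X.presheaf.algebra_section_stalk ⟨i.1, (hF.mp i.2).1⟩
    haveI := hW.isLocalization_stalk ⟨i.1, (hF.mp i.2).1⟩
    obtain ⟨⟨m, b⟩, hmb⟩ := IsLocalization.surj (P i).primeCompl c
    refine ⟨b, m, b.2, ?_⟩
    rw [← hc, smul_smul]
    refine congrArg (· • _) ?_
    exact (hmb.symm.trans (mul_comm c _) :)
  choose b m hbi hbm using hc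
  let bb : Γ(X, W) := ∑ i, h i * b i
  let mm : Γ(X, W) := ∑ i, h i * m i
  have hsum : ∀ (j : F) (v : F → Γ(X, W)), X.presheaf.germ W j.1 (hF.mp j.2).1 (∑ i, h i * v i) =
      X.presheaf.germ W j.1 (hF.mp j.2).1 (h j) * X.presheaf.germ W j.1 (hF.mp j.2).1 (v j) := by
    intro j v
    rw [map_sum, Finset.sum_eq_single j (fun i _ hij => by
      rw [map_mul, hhj i j (Ne.symm hij), zero_mul]) (fun hj => absurd (Finset.mem_univ j) hj),
      map_mul]
  have hbb : bb ∈ regSub X W := fun z => by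
    refine (germ_nzd_iff_isUnit_maxAssoc bb).mpr (fun y hy hass => ?_) z.1 z.2
    let j : F := ⟨y, hF.mpr ⟨hy, ha y hass⟩⟩
    rw [show X.presheaf.germ W y hy bb = _ from hsum j b]
    letI := X.presheaf.algebra_section_stalk ⟨y, hy⟩
    haveI := hW.isLocalization_stalk ⟨y, hy⟩
    exact ((IsLocalization.AtPrime.isUnit_to_map_iff (X.presheaf.stalk y) (P j) _).mpr (hhi j)).mul
      ((IsLocalization.AtPrime.isUnit_to_map_iff (X.presheaf.stalk y) (P j) _).mpr (hbi j))
  refine ⟨⟨W, hxW, mm • e, ⟨bb, hbb⟩, fun y hy hass => ?_⟩⟩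
  let j : F := ⟨y, hF.mpr ⟨hy, ha y hass⟩⟩
  rw [Mero.germ_smul, show X.presheaf.germ W y hy mm = _ from hsum j m,
    show X.presheaf.germ W y hy bb = _ from hsum j b, mul_smul, mul_smul]
  exact congrArg _ (hbm j)

end Groth.Agent.Lib.MeroK.RegMero
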