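import Groth.Agent.Lib.MeroK.DivSection
import Groth.Agent.Lib.Ample.GenLocus

/-!
# `O_X(D) ⊗ O_X(E) ≅ O_X(D * E)`
-/

universe u

noncomputable section

open CategoryTheory AlgebraicGeometry TopologicalSpace Opposite

namespace Groth.Agent.Lib.MeroK.DivTensor

open Groth.Agent.Lib.MeroK.Basic Mero
open Groth.Agent.Lib.TensorMod.Dual Groth.Agent.Lib.TensorMod.Gen
open Groth.Agent.Lib.TensorMod Groth.Agent.Lib.TensorMod.Pullback Groth.Agent.Lib.TensorMod.Free

variable {X : Scheme.{u}}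

/-- A morphism carrying generators to generators near every point is an isomorphism. -/
theorem isIso_of_gen {M N : X.Modules} (φ : M ⟶ N)
    (h : ∀ x : X, ∃ (U : X.Opens) (e : Γ(M, U)), x ∈ U ∧ IsGen M U e ∧ IsGen N U (φ.app U e)) :
    IsIso φ := by
  refine (Modules.StalkModule.isIso_iff_stalkMapₗ_bijective φ).mpr fun x => ?_
  obtain ⟨U, e, hx, he, he'⟩ := h x
  refine (Function.Bijective.of_comp_iff _ (RegMero.stalk_gen he hx)).mp ?_
  have h1 : (Modules.StalkModule.stalkMapₗ φ x) ∘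
      (fun c : X.presheaf.stalk x => c • M.presheaf.germ U x hx e) =
      fun c => c • N.presheaf.germ U x hx (φ.app U e) := by
    funext c
    rw [Function.comp_apply, map_smul, Modules.StalkModule.stalkMapₗ_germ]
  rw [h1]
  exact RegMero.stalk_gen he' hx

/-- The product of sections of `O_X(D)` and `O_X(E)`. -/
def mulSect (D E : Divisor X) (U : X.Opens) (t : Γ(divMod D, U)) (t' : Γ(divMod E, U)) :
    Γ(divMod (D * E), U) :=
  ⟨fun y => t.1 y * t'.1 y, kLoc_mul X U t.1 t'.1 t.2.1 t'.2.1, fun y g hg => by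
    obtain ⟨g₁, h₁⟩ := QuotientGroup.mk_surjective (D.1 y.1)
    obtain ⟨g₂, h₂⟩ := QuotientGroup.mk_surjective (E.1 y.1)
    have h3 : (QuotientGroup.mk (g₁ * g₂) : Germ X y.1) = QuotientGroup.mk g := by
      rw [QuotientGroup.mk_mul, h₁, h₂, ← hg]
      rfl
    rw [QuotientGroup.eq] at h3
    obtain ⟨w, hw⟩ := h3
    obtain ⟨r₁, hr₁⟩ := t.2.2 y g₁ h₁.symm
    obtain ⟨r₂, hr₂⟩ := t'.2.2 y g₂ h₂.symm
    have hg' : g = g₁ * g₂ * Units.map (algebraMap (X.presheaf.stalk y.1) (KStalk X y.1)).toMonoidHom w := by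
      rw [hw, mul_inv_cancel_left]
    refine ⟨r₁ * r₂ * (w : X.presheaf.stalk y.1), ?_⟩
    rw [map_mul, map_mul, hr₁, hr₂, hg', Units.val_mul, Units.val_mul, Units.coe_map]
    simp only [RingHom.toMonoidHom_eq_coe, MonoidHom.coe_coe]
    ring⟩

theorem mulSect_apply (D E : Divisor X) (U : X.Opens) (t : Γ(divMod D, U)) (t' : Γ(divMod E, U))
    (y : U) : (mulSect D E U t t').1 y = t.1 y * t'.1 y := rfl

theorem exists_mulHom (D E : Divisor X) :
    ∃ μ : CohB1.tensorMod (divMod D) (divMod E) ⟶ divMod (D * E),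
      (∀ (U : X.Opens) (t : Γ(divMod D, U)) (t' : Γ(divMod E, U)),
        μ.app U (SecTwist.tmul (divMod D) (divMod E) U t t') = mulSect D E U t t') ∧ IsIso μ := by
  obtain ⟨μ, hμ⟩ := exists_hom_of_pairing (M := divMod D) (N := divMod E) (H := divMod (D * E))
    (fun U t t' => mulSect D E U t t')
    (fun U m m' n => Subtype.ext (funext fun y => add_mul _ _ _))
    (fun U m n n' => Subtype.ext (funext fun y => mul_add _ _ _))
    (fun U r m n => Subtype.ext (funext fun y => smul_mul_assoc _ _ _))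
    (fun U r m n => Subtype.ext (funext fun y => mul_smul_comm _ _ _))
    (fun U V i m n => Subtype.ext (funext fun y => rfl))
  have hμ' : ∀ (U : X.Opens) (t : Γ(divMod D, U)) (t' : Γ(divMod E, U)),
      μ.app U (SecTwist.tmul (divMod D) (divMod E) U t t') = mulSect D E U t t' := fun U t t' => by
    have h := pairM_comp (𝟙 _) μ t t'
    rw [Category.id_comp, hμ, Ample.GenLocus.pairM_id] at h
    exact h.symm
  refine ⟨μ, hμ', isIso_of_gen μ fun x => ?_⟩
  obtain ⟨U₁, hx₁, f₁, hf₁⟩ := D.2 x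
  obtain ⟨U₂, hx₂, f₂, hf₂⟩ := E.2 x
  let U := U₁ ⊓ U₂
  let f₁' : (Γ(kmod X, U))ˣ :=
    Units.map ((kring X).obj.map (homOfLE inf_le_left).op).hom.toMonoidHom f₁
  let f₂' : (Γ(kmod X, U))ˣ :=
    Units.map ((kring X).obj.map (homOfLE inf_le_right).op).hom.toMonoidHom f₂
  obtain ⟨e₁, he₁, hev₁⟩ := DivMod.exists_gen D f₁' fun y => hf₁ ⟨y.1, y.2.1⟩
  obtain ⟨e₂, he₂, hev₂⟩ := DivMod.exists_gen E f₂' fun y => hf₂ ⟨y.1, y.2.2⟩
  obtain ⟨e, he, hev⟩ := DivMod.exists_gen (D * E) (f₁' * f₂') fun y => by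
    change D.1 y.1 * E.1 y.1 = _
    rw [hf₁ ⟨y.1, y.2.1⟩, hf₂ ⟨y.1, y.2.2⟩, germOf, germOf, germOf, map_mul, QuotientGroup.mk_mul]
    rfl
  refine ⟨U, _, ⟨hx₁, hx₂⟩, Ample.GenLocus.isGen_tmul he₁ he₂, ?_⟩
  rw [hμ']
  have heq : mulSect D E U e₁ e₂ = e := Subtype.ext (funext fun y => by
    rw [mulSect_apply, hev₁, hev₂, hev, mul_inv, Units.val_mul, kmod_mul_apply])
  rw [heq]
  exact he

end Groth.Agent.Lib.MeroK.DivTensor
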