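import Groth.Agent.Lib.MeroK.Basic
import Mathlib.RingTheory.Ideal.MinimalPrime.Localization
import Mathlib.RingTheory.Ideal.AssociatedPrime.Localization
import Mathlib.RingTheory.Ideal.AssociatedPrime.Finiteness

/-!
# Meromorphic functions on affine opens with finitely many associated points
-/

universe u

noncomputable section

open CategoryTheory AlgebraicGeometry TopologicalSpace Opposite

namespace Groth.Agent.Lib.MeroK.Affine

open Groth.Agent.Lib.Ideal.EffCartier Groth.Agent.Lib.AssPt.Basic Groth.Agent.Lib.MeroK.Basic Mero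

variable {X : Scheme.{u}}

/-- A section of `K_X` on a quasi-compact open which vanishes where `h` is invertible is killed
by a power of `h`. -/
theorem exists_pow_mul_eq_zero {U : X.Opens} (hU : IsCompact (U : Set X)) (h : Γ(X, U))
    (f : Γ(kmod X, U)) (hf : ∀ y (hy : y ∈ U), y ∈ X.basicOpen h → f.1 ⟨y, hy⟩ = 0) :
    ∃ n : ℕ, toK X U h ^ n * f = 0 := by
  classical
  have hloc : ∀ x : U, ∃ W : X.Opens, x.1 ∈ W ∧ ∃ n : ℕ, ∀ y (_ : y ∈ W) (hy : y ∈ U),
      (toK X U h ^ n * f).1 ⟨y, hy⟩ = 0 := by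
    intro x
    obtain ⟨V, hV, hxV, a, b, hab⟩ := exists_rep f x
    obtain ⟨W, hW, hxW, hle⟩ := exists_isAffineOpen_mem_and_subset hxV
    have hWV : W ≤ V := fun z hz => hle hz
    set a' := X.presheaf.map (homOfLE hWV).op a with ha'
    set h' := X.presheaf.map (homOfLE (hWV.trans hV)).op h with hh'
    haveI := hW.isLocalization_basicOpen h'
    have hz : algebraMap Γ(X, W) Γ(X, X.basicOpen h') a' = 0 := by
      change X.presheaf.map (homOfLE (X.basicOpen_le h')).op a' = 0
      refine section_eq_zero_of_germs _ fun y hy => ?_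
      have hyW : y ∈ W := X.basicOpen_le h' hy
      rw [TopCat.Presheaf.germ_res_apply, TopCat.Presheaf.germ_res_apply]
      refine Mero.algebraMap_KStalk_injective y ?_
      rw [map_zero, ← hab y (hWV hyW)]
      have hyh : y ∈ X.basicOpen h := by
        rw [hh', Scheme.basicOpen_res] at hy
        exact hy.2
      rw [hf y (hV (hWV hyW)) hyh, zero_mul]
    obtain ⟨⟨e, n, rfl⟩, hn⟩ := (IsLocalization.map_eq_zero_iff (Submonoid.powers h') _ a').mp hz
    refine ⟨W, hxW, n, fun y hy hyU => ?_⟩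
    have hm := congrArg (X.presheaf.germ W y hy) hn
    simp only [map_mul, map_pow, map_zero, hh', ha', TopCat.Presheaf.germ_res_apply] at hm
    refine (mul_algebraMap_regStalk_eq_zero_iff
      (Mero.germ_mem_regStalk ⟨y, hWV hy⟩ b.2)).mp ?_
    change ((Mero.evalK X U ⟨y, hyU⟩) (Mero.toK X U h ^ n * f)) * _ = 0
    rw [map_mul, map_pow]
    change (Mero.toK X U h).1 ⟨y, hyU⟩ ^ n * f.1 ⟨y, hyU⟩ * _ = 0
    rw [mul_assoc]
    refine (congrArg _ (hab y (hWV hy))).trans ?_
    rw [toK_eq_algebraMap, ← map_pow, ← map_mul, hm, map_zero]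
  choose W hxW n hn using hloc
  obtain ⟨T, hT⟩ := hU.elim_finite_subcover (fun x => (W x : Set X))
    (fun x => (W x).isOpen) (fun x hx => Set.mem_iUnion.mpr ⟨⟨x, hx⟩, hxW ⟨x, hx⟩⟩)
  refine ⟨T.sup n, Subtype.ext (funext fun ⟨y, hy⟩ => ?_)⟩
  obtain ⟨x, hxT, hyx⟩ := Set.mem_iUnion₂.mp (hT hy)
  obtain ⟨k, hk⟩ := Nat.le.dest (Finset.le_sup (f := n) hxT)
  rw [← hk, pow_add, mul_right_comm]
  rw [Mero.kmod_mul_apply, hn x y hyx hy, zero_mul]
  rfl

theorem toK_injective (U : X.Opens) : Function.Injective (toK X U) := by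
  rw [injective_iff_map_eq_zero]
  intro a ha
  refine section_eq_zero_of_germs a fun y hy => Mero.algebraMap_KStalk_injective y ?_
  rw [map_zero, ← toK_eq_algebraMap a ⟨y, hy⟩, ha]
  rfl

/-- Regular sections are invertible meromorphic functions. -/
theorem isUnit_toK {U : X.Opens} {r : Γ(X, U)} (hr : r ∈ regSub X U) : IsUnit (toK X U r) := by
  refine IsUnit.of_mul_eq_one
    (⟨fun x => LocalizedModule.mk (1 : X.presheaf.stalk x.1) (regGerm x ⟨r, hr⟩),
      fun x => ⟨U, x.2, 𝟙 _, 1, ⟨r, hr⟩, fun y => mk_congr (map_one _).symm rfl⟩⟩ :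
      Γ(kmod X, U)) ?_
  refine Subtype.ext (funext fun x => ?_)
  rw [kmod_mul_apply, toK_eq_algebraMap, kmod_one_apply, mul_comm]
  exact (mk_eq_algebraMap_mul _ (regGerm x ⟨r, hr⟩)).trans (map_one _)

/-- **`K_X(U)` is the total ring of fractions** for affine `U` with finitely many associated
points. -/
theorem isLocalization {U : X.Opens} (hU : IsAffineOpen U)
    (hfin : {y : X | y ∈ U ∧ MaxAssoc (X.presheaf.stalk y)}.Finite) :
    @IsLocalization Γ(X, U) _ (nonZeroDivisors Γ(X, U)) Γ(kmod X, U) _ (toK X U).toAlgebra := by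
  classical
  letI := (toK X U).toAlgebra
  have hreg : ∀ r : nonZeroDivisors Γ(X, U), (r : Γ(X, U)) ∈ regSub X U := fun r x =>
    germ_mem_nonZeroDivisors hU r.2 x.1 x.2
  rw [isLocalization_iff]
  refine ⟨fun r => isUnit_toK (hreg r), fun s => ?_,
    fun {a b} h => ⟨1, by rw [toK_injective U h]⟩⟩
  let I : Ideal Γ(X, U) :=
    { carrier := {r | ∃ a, toK X U r * s = toK X U a}
      add_mem' := by
        rintro r r' ⟨a, ha⟩ ⟨a', ha'⟩
        exact ⟨a + a', by rw [map_add, add_mul, ha, ha', map_add]⟩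
      zero_mem' := ⟨0, by rw [map_zero, zero_mul]⟩
      smul_mem' := by
        rintro c r ⟨a, ha⟩
        exact ⟨c * a, by rw [smul_eq_mul, map_mul, mul_assoc, ha, map_mul]⟩ }
  have hne : ∀ y (hy : y ∈ U), MaxAssoc (X.presheaf.stalk y) →
      ¬ I ≤ (hU.primeIdealOf ⟨y, hy⟩).asIdeal := by
    intro y hy hass hle
    obtain ⟨W, hWU, hyW, a, b, hab⟩ := exists_rep s ⟨y, hy⟩
    obtain ⟨g, hgW, hyg⟩ := hU.exists_basicOpen_le ⟨y, hyW⟩ hy
    let D := X.basicOpen g
    haveI := hU.isLocalization_basicOpen g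
    obtain ⟨⟨b', ⟨_, n, rfl⟩⟩, hb'⟩ := IsLocalization.surj (Submonoid.powers g)
      (X.presheaf.map (homOfLE hgW).op b.1)
    obtain ⟨⟨a', ⟨_, m, rfl⟩⟩, ha'⟩ := IsLocalization.surj (Submonoid.powers g)
      (X.presheaf.map (homOfLE hgW).op a)
    have hbg : ∀ z (hz : z ∈ D), X.presheaf.germ W z (hgW hz) b.1 *
        X.presheaf.germ U z (X.basicOpen_le g hz) g ^ n =
          X.presheaf.germ U z (X.basicOpen_le g hz) b' := fun z hz => by
      have := congrArg (X.presheaf.germ D z hz) hb'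
      simpa only [RingHom.algebraMap_toAlgebra, map_mul, map_pow,
        TopCat.Presheaf.germ_res_apply] using this
    have hag : ∀ z (hz : z ∈ D), X.presheaf.germ W z (hgW hz) a *
        X.presheaf.germ U z (X.basicOpen_le g hz) g ^ m =
          X.presheaf.germ U z (X.basicOpen_le g hz) a' := fun z hz => by
      have := congrArg (X.presheaf.germ D z hz) ha'
      simpa only [RingHom.algebraMap_toAlgebra, map_mul, map_pow,
        TopCat.Presheaf.germ_res_apply] using this
    obtain ⟨k, hk⟩ := exists_pow_mul_eq_zero hU.isCompact g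
      (toK X U (b' * g ^ m) * s - toK X U (a' * g ^ n)) (fun z hz hzg => by
        change (evalK X U ⟨z, hz⟩) (_ - _) = 0
        rw [map_sub, map_mul, sub_eq_zero]
        change (toK X U (b' * g ^ m)).1 ⟨z, hz⟩ * s.1 ⟨z, hz⟩ =
          (toK X U (a' * g ^ n)).1 ⟨z, hz⟩
        rw [toK_eq_algebraMap, toK_eq_algebraMap]
        simp only [map_mul, map_pow]
        rw [← hbg z hzg, ← hag z hzg]
        simp only [map_mul, map_pow]
        rw [← hab z (hgW hzg)]
        ring)
    have hmem : g ^ k * (b' * g ^ m) ∈ I := by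
      refine ⟨g ^ k * (a' * g ^ n), ?_⟩
      rw [mul_sub, sub_eq_zero] at hk
      rw [map_mul, mul_assoc, map_pow, hk]
      simp only [map_mul, map_pow]
    letI := X.presheaf.algebra_section_stalk ⟨y, hy⟩
    haveI := hU.isLocalization_stalk ⟨y, hy⟩
    refine (IsLocalization.AtPrime.isUnit_to_map_iff (X.presheaf.stalk y)
      (hU.primeIdealOf ⟨y, hy⟩).asIdeal _).mp ?_ (hle hmem)
    change IsUnit (X.presheaf.germ U y hy (g ^ k * (b' * g ^ m)))
    have hg : IsUnit (X.presheaf.germ U y hy g) := (X.mem_basicOpen g y hy).mp hyg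
    simp only [map_mul, map_pow]
    rw [← hbg y hyg]
    exact (hg.pow k).mul (((isUnit_of_nzd_of_maxAssoc hass (b.2 ⟨y, hyW⟩)).mul (hg.pow n)).mul
      (hg.pow m))
  obtain ⟨r, hrI, hr⟩ : ∃ r ∈ I, ∀ y (hy : y ∈ U), MaxAssoc (X.presheaf.stalk y) →
      IsUnit (X.presheaf.germ U y hy r) := by
    let P : X → Ideal Γ(X, U) := fun y =>
      if hy : y ∈ U then (hU.primeIdealOf ⟨y, hy⟩).asIdeal else ⊤
    by_contra hc
    have hsub : (I : Set Γ(X, U)) ⊆ ⋃ y ∈ (hfin.toFinset : Set X), (P y : Set Γ(X, U)) := by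
      intro r hr
      by_contra hr'
      refine hc ⟨r, hr, fun y hy ha => ?_⟩
      letI := X.presheaf.algebra_section_stalk ⟨y, hy⟩
      haveI := hU.isLocalization_stalk ⟨y, hy⟩
      refine (IsLocalization.AtPrime.isUnit_to_map_iff (X.presheaf.stalk y)
        (hU.primeIdealOf ⟨y, hy⟩).asIdeal r).mpr fun hmem => hr' ?_
      refine Set.mem_iUnion₂.mpr ⟨y, hfin.mem_toFinset.mpr ⟨hy, ha⟩, ?_⟩
      simpa only [P, dif_pos hy] using hmem
    by_cases hs : hfin.toFinset = ∅
    · rw [hs] at hsub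
      simpa using hsub I.zero_mem
    · obtain ⟨y₀, hy₀⟩ := Finset.nonempty_iff_ne_empty.mpr hs
      obtain ⟨y, hyF, hIy⟩ := (Ideal.subset_union_prime y₀ y₀ (fun i hi _ _ => by
        simp only [P, dif_pos (hfin.mem_toFinset.mp hi).1]
        exact (hU.primeIdealOf ⟨i, _⟩).isPrime)).1 hsub
      obtain ⟨hy, ha⟩ := hfin.mem_toFinset.mp hyF
      simp only [P, dif_pos hy] at hIy
      exact hne y hy ha hIy
  have hrn : r ∈ nonZeroDivisors Γ(X, U) :=
    mem_nonZeroDivisors_of_germ ((germ_nzd_iff_isUnit_maxAssoc r).mpr hr)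
  obtain ⟨a, ha⟩ := hrI
  exact ⟨⟨a, ⟨r, hrn⟩⟩, by rw [RingHom.algebraMap_toAlgebra, mul_comm]; exact ha⟩

/-- Noetherian schemes have finitely many associated points on each affine open. -/
theorem finite_maxAssoc [IsLocallyNoetherian X] {U : X.Opens} (hU : IsAffineOpen U) :
    {y : X | y ∈ U ∧ MaxAssoc (X.presheaf.stalk y)}.Finite := by
  haveI : IsNoetherianRing Γ(X, U) := IsLocallyNoetherian.component_noetherian ⟨U, hU⟩
  classical
  refine Set.Finite.of_finite_image (f := fun y => if hy : y ∈ U then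
    (hU.primeIdealOf ⟨y, hy⟩).asIdeal else ⊤) ?_ ?_
  · refine (associatedPrimes.finite Γ(X, U) Γ(X, U)).subset ?_
    rintro _ ⟨y, ⟨hy, ha⟩, rfl⟩
    simp only [dif_pos hy]
    letI := X.presheaf.algebra_section_stalk ⟨y, hy⟩
    haveI := hU.isLocalization_stalk ⟨y, hy⟩
    have h := Module.associatedPrimes.comap_mem_associatedPrimes_of_mem_associatedPrimes_of_isLocalizedModule_of_fg
      (hU.primeIdealOf ⟨y, hy⟩).asIdeal.primeCompl
      (Algebra.linearMap Γ(X, U) (X.presheaf.stalk y))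
      (IsLocalRing.maximalIdeal (X.presheaf.stalk y)) ha
      ((isNoetherianRing_iff_ideal_fg _).mp inferInstance _)
    exact (IsLocalization.AtPrime.under_maximalIdeal (X.presheaf.stalk y)
      (hU.primeIdealOf ⟨y, hy⟩).asIdeal) ▸ h
  · rintro y ⟨hy, -⟩ z ⟨hz, -⟩ h
    simp only [dif_pos hy, dif_pos hz] at h
    have := congrArg hU.fromSpec (PrimeSpectrum.ext h)
    rwa [hU.fromSpec_primeIdealOf, hU.fromSpec_primeIdealOf] at this

theorem isUnit_germ_of_specializes {U : X.Opens} (hU : IsAffineOpen U) (s : Γ(X, U)) {x y : X}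
    (hx : x ∈ U) (hyx : y ⤳ x) (hmax : ∀ z : X, z ⤳ y → z = y)
    (hs : X.presheaf.germ U x hx s ∈ nonZeroDivisors (X.presheaf.stalk x)) :
    IsUnit (X.presheaf.germ U y (hyx.mem_open U.isOpen hx) s) := by
  have hy : y ∈ U := hyx.mem_open U.isOpen hx
  by_contra hu
  letI := X.presheaf.algebra_section_stalk ⟨x, hx⟩
  haveI := hU.isLocalization_stalk ⟨x, hx⟩
  set P := (hU.primeIdealOf ⟨x, hx⟩).asIdeal
  set Q := (hU.primeIdealOf ⟨y, hy⟩).asIdeal with hQdef
  have hsQ : s ∈ Q := by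
    letI := X.presheaf.algebra_section_stalk ⟨y, hy⟩
    haveI := hU.isLocalization_stalk ⟨y, hy⟩
    by_contra hsQ
    exact hu ((IsLocalization.AtPrime.isUnit_to_map_iff (X.presheaf.stalk y) Q s).mpr hsQ)
  have hle : Q ≤ P := (specializes_iff_primeIdealOf hU hx hy).mp hyx
  have hdisj : Disjoint (P.primeCompl : Set Γ(X, U)) Q :=
    Set.disjoint_left.mpr fun z hz hzQ => hz (hle hzQ)
  have hmin : Q.map (algebraMap Γ(X, U) (X.presheaf.stalk x)) ∈
      minimalPrimes (X.presheaf.stalk x) := by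
    have h := IsLocalization.minimalPrimes_map P.primeCompl (X.presheaf.stalk x)
      (⊥ : Ideal Γ(X, U))
    rw [Ideal.map_bot] at h
    change _ ∈ (⊥ : Ideal (X.presheaf.stalk x)).minimalPrimes
    rw [h, Set.mem_preimage,
      IsLocalization.under_map_of_isPrime_disjoint P.primeCompl (X.presheaf.stalk x)
        (hU.primeIdealOf ⟨y, hy⟩).isPrime hdisj]
    exact (maximalPoint_iff_minimalPrime hU hy).mp hmax
  exact (Set.disjoint_left.mp (Ideal.disjoint_nonZeroDivisors_of_mem_minimalPrimes hmin))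
    (Ideal.mem_map_of_mem (algebraMap Γ(X, U) (X.presheaf.stalk x)) hsQ) hs

/-- Maximal points of a quasi-compact open with finitely many components form a finite set. -/
theorem finite_maximalPoints {U : X.Opens} (hU : IsAffineOpen U)
    (hb : (irreducibleComponents ↥(U : Scheme.{u})).Finite) :
    {y : X | y ∈ U ∧ ∀ z : X, z ⤳ y → z = y}.Finite := by
  refine Set.Finite.of_finite_image
    (f := fun y => (Subtype.val ⁻¹' closure {y} : Set U)) ?_ ?_
  · refine (hb.subset ?_)
    rintro _ ⟨y, ⟨hy, hmax⟩, rfl⟩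
    have hcl : (Subtype.val ⁻¹' closure {y} : Set U) = closure {(⟨y, hy⟩ : U)} := by
      rw [(U.isOpen.isOpenEmbedding_subtypeVal.isInducing).closure_eq_preimage_closure_image,
        Set.image_singleton]
      all_goals rfl
    show (Subtype.val ⁻¹' closure {y} : Set U) ∈ irreducibleComponents ↥(U : Scheme.{u})
    rw [hcl]
    refine ⟨isIrreducible_singleton.closure, fun Z hZ hle => ?_⟩
    haveI : QuasiSober ↥(U : Scheme.{u}) := inferInstance
    intro z hz
    have hg := hZ.closure.isGenericPoint_genericPoint isClosed_closure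
    set η := hZ.closure.genericPoint
    have h1 : η ⤳ (⟨y, hy⟩ : ↥(U : Scheme.{u})) :=
      hg.specializes (subset_closure (hle (subset_closure rfl)))
    have h2 : η = (⟨y, hy⟩ : ↥(U : Scheme.{u})) :=
      Subtype.ext (hmax _ (h1.map continuous_subtype_val))
    rw [h2] at hg
    exact hg.symm ▸ subset_closure hz
  · rintro y ⟨hy, hmy⟩ z ⟨hz, -⟩ h
    have : (⟨y, hy⟩ : U) ∈ (Subtype.val ⁻¹' closure {z} : Set U) :=
      (Set.ext_iff.mp h ⟨y, hy⟩).mp (subset_closure (Set.mem_singleton y))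
    exact (hmy z (specializes_iff_mem_closure.mpr this)).symm

/-- With no embedded associated points and locally finitely many components, nonzerodivisors of
local rings are germs of regular sections. -/
theorem regStalk_eq_nonZeroDivisors_of_maximal
    (ha : ∀ x : X, MaxAssoc (X.presheaf.stalk x) → ∀ y : X, y ⤳ x → y = x)
    (hb : ∀ U : X.Opens, IsCompact (U : Set X) → (irreducibleComponents ↥(U : Scheme.{u})).Finite)
    (x : X) : regStalk X x = nonZeroDivisors (X.presheaf.stalk x) := by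
  refine le_antisymm (regStalk_le_nonZeroDivisors x) fun g hg => ?_
  obtain ⟨W, hxW, s, rfl⟩ := X.presheaf.exists_germ_eq g
  obtain ⟨U, hU, hxU, hle⟩ := exists_isAffineOpen_mem_and_subset hxW
  have hUW : U ≤ W := fun z hz => hle hz
  rw [← TopCat.Presheaf.germ_res_apply X.presheaf (homOfLE hUW) x hxU] at hg ⊢
  set s' := X.presheaf.map (homOfLE hUW).op s
  let F : Set X := {y | y ∈ U ∧ ∀ z : X, z ⤳ y → z = y}
  have hF : F.Finite := finite_maximalPoints hU (hb U hU.isCompact)
  let C : Set X := ⋃ y ∈ {y ∈ F | ¬ y ⤳ x}, closure {y}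
  have hC : IsClosed C := (hF.subset fun _ h => h.1).isClosed_biUnion fun _ _ => isClosed_closure
  let V : X.Opens := U ⊓ ⟨Cᶜ, hC.isOpen_compl⟩
  have hxV : x ∈ V := ⟨hxU, fun hxC => by
    obtain ⟨y, hy, hxy⟩ := Set.mem_iUnion₂.mp hxC
    exact hy.2 (specializes_iff_mem_closure.mpr hxy)⟩
  refine ⟨V, hxV, X.presheaf.map (homOfLE inf_le_left).op s', fun z => ?_, ?_⟩
  · refine (germ_nzd_iff_isUnit_maxAssoc _).mpr (fun y hy hass => ?_) z.1 z.2
    rw [TopCat.Presheaf.germ_res_apply]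
    have hyx : y ⤳ x := by
      by_contra hn
      exact hy.2 (Set.mem_iUnion₂.mpr ⟨y, ⟨⟨hy.1, ha y hass⟩, hn⟩, subset_closure rfl⟩)
    exact isUnit_germ_of_specializes hU s' hxU hyx (ha y hass) hg
  · rw [TopCat.Presheaf.germ_res_apply]

end Groth.Agent.Lib.MeroK.Affine
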