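import Groth.Agent.Lib.MeroK.Basic
import Groth.Agent.Lib.AssPt.Modules
import Groth.Agent.Lib.Depth.Assoc

/-!
# Effectivity of divisors is detected at points of depth one
-/

universe u

noncomputable section

open CategoryTheory AlgebraicGeometry TopologicalSpace Opposite

namespace Groth.Agent.Lib.MeroK.Depth

open Groth.Agent.Lib.Ideal.EffCartier Groth.Agent.Lib.AssPt.Basic
  Groth.Agent.Lib.AssPt.Modules Groth.Agent.Lib.MeroK.Basic Mero

variable {X : Scheme.{u}}

theorem depth_eq_one_of_radical_colon {R : Type u} [CommRing R] [IsNoetherianRing R]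
    [IsLocalRing R] {b a : R} (hb : IsSMulRegular R b) (hbm : b ∈ IsLocalRing.maximalIdeal R)
    (h : ((Ideal.span {b}).colon {a}).radical = IsLocalRing.maximalIdeal R) :
    LocCoh.depth R R = 1 := by
  have hass : IsLocalRing.maximalIdeal R ∈ associatedPrimes R (QuotSMulTop b R) := by
    refine ⟨inferInstance, Submodule.Quotient.mk a, ?_⟩
    rw [← h]
    congr 1
    ext r
    rw [Submodule.mem_colon_singleton, Submodule.mem_colon_singleton, Submodule.mem_bot,
      ← Submodule.Quotient.mk_smul, Submodule.Quotient.mk_eq_zero, Ideal.mem_span_singleton,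
      Submodule.mem_smul_pointwise_iff_exists]
    exact ⟨fun ⟨c, hc⟩ => ⟨c, trivial, hc.symm⟩, fun ⟨c, _, hc⟩ => ⟨c, hc.symm⟩⟩
  haveI : Nontrivial (QuotSMulTop b R) := by
    by_contra hn
    haveI := not_nontrivial_iff_subsingleton.mp hn
    exact not_isAssociatedPrime_of_subsingleton hass
  have h0 := (Groth.Agent.Lib.Depth.Assoc.depth_eq_zero_iff (R := R) (M := QuotSMulTop b R)).mpr hass
  have := Groth.Agent.Lib.Depth.SES.idealDepth_quotSMulTop (IsLocalRing.maximalIdeal R) hbm hb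
  rw [LocCoh.depth] at h0 ⊢
  rw [← this, h0, zero_add]

/-- A divisor is locally the quotient `a / b` of regular sections. -/
theorem exists_quotient_rep (D : Divisor X) (x : X) :
    ∃ (V : X.Opens) (_ : x ∈ V) (a b : regSub X V), ∀ y (hy : y ∈ V),
      ∃ g : (KStalk X y)ˣ, D.1 y = QuotientGroup.mk g ∧
        (g : KStalk X y) * algebraMap _ (KStalk X y) (X.presheaf.germ V y hy b.1) =
          algebraMap _ (KStalk X y) (X.presheaf.germ V y hy a.1) := by
  obtain ⟨U, hxU, f, hf⟩ := D.2 x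
  obtain ⟨V₁, hV₁, hx₁, a, b, h⟩ := exists_rep (↑f : Γ(kmod X, U)) ⟨x, hxU⟩
  obtain ⟨V₂, hV₂, hx₂, c, d, h'⟩ := exists_rep (↑f⁻¹ : Γ(kmod X, U)) ⟨x, hxU⟩
  let a' : Γ(X, V₁ ⊓ V₂) := X.presheaf.map (homOfLE inf_le_left).op a
  let b' : Γ(X, V₁ ⊓ V₂) := X.presheaf.map (homOfLE inf_le_left).op b.1
  have ha' : a' ∈ regSub X (V₁ ⊓ V₂) := by
    intro ⟨y, hy⟩
    change X.presheaf.germ _ y hy (X.presheaf.map _ a) ∈ _
    rw [TopCat.Presheaf.germ_res_apply]
    have he : X.presheaf.germ V₁ y hy.1 a * X.presheaf.germ V₂ y hy.2 c =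
        X.presheaf.germ V₁ y hy.1 b.1 * X.presheaf.germ V₂ y hy.2 d.1 := by
      refine algebraMap_KStalk_injective y ?_
      rw [map_mul, map_mul, ← h y hy.1, ← h' y hy.2]
      have hi : (↑f : Γ(kmod X, U)).1 ⟨y, hV₁ hy.1⟩ * (↑f⁻¹ : Γ(kmod X, U)).1 ⟨y, hV₁ hy.1⟩ = 1 := by
        rw [← kmod_mul_apply, Units.mul_inv]
        rfl
      calc _ = ((↑f : Γ(kmod X, U)).1 ⟨y, hV₁ hy.1⟩ * (↑f⁻¹ : Γ(kmod X, U)).1 ⟨y, hV₁ hy.1⟩) *
            (algebraMap _ (KStalk X y) (X.presheaf.germ V₁ y hy.1 b.1) *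
              algebraMap _ (KStalk X y) (X.presheaf.germ V₂ y hy.2 d.1)) := by ring
        _ = _ := by rw [hi, one_mul]
    have := (mul_mem_nonZeroDivisors (a := X.presheaf.germ V₁ y hy.1 a)
      (b := X.presheaf.germ V₂ y hy.2 c)).mp
        (he ▸ Submonoid.mul_mem _ (b.2 ⟨y, hy.1⟩) (d.2 ⟨y, hy.2⟩))
    exact this.1
  refine ⟨V₁ ⊓ V₂, ⟨hx₁, hx₂⟩, ⟨a', ha'⟩, ⟨b', regSub_res _ b.2⟩, fun y hy =>
    ⟨Units.map (evalK X U ⟨y, hV₁ hy.1⟩).toMonoidHom f, hf ⟨y, hV₁ hy.1⟩, ?_⟩⟩
  simp only [a', b', TopCat.Presheaf.germ_res_apply]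
  exact h y hy.1

theorem isEffectiveAt_iff_dvd [IsLocallyNoetherian X] (D : Divisor X) {y : X}
    {α β : X.presheaf.stalk y} (hα : α ∈ nonZeroDivisors (X.presheaf.stalk y))
    {g : (KStalk X y)ˣ} (hg : D.1 y = QuotientGroup.mk g)
    (h : (g : KStalk X y) * algebraMap _ (KStalk X y) β = algebraMap _ (KStalk X y) α) :
    IsEffectiveAt D y ↔ β ∣ α := by
  constructor
  · rintro ⟨c, hc⟩
    rw [hg, QuotientGroup.eq] at hc
    obtain ⟨v, hv⟩ := hc
    refine ⟨c.1 * (↑v⁻¹ : X.presheaf.stalk y), algebraMap_KStalk_injective y ?_⟩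
    have hv' : algebraMap _ (KStalk X y) (v : X.presheaf.stalk y) =
        (↑g⁻¹ : KStalk X y) * algebraMap _ (KStalk X y) c.1 := congrArg Units.val hv
    have hgv : (g : KStalk X y) = algebraMap _ (KStalk X y) c.1 *
        algebraMap _ (KStalk X y) (↑v⁻¹ : X.presheaf.stalk y) := by
      have h1 : algebraMap _ (KStalk X y) (v : X.presheaf.stalk y) *
          algebraMap _ (KStalk X y) (↑v⁻¹ : X.presheaf.stalk y) = 1 := by
        rw [← map_mul, Units.mul_inv, map_one]
      rw [hv', mul_assoc, Units.inv_mul_eq_one] at h1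
      exact h1
    rw [map_mul, map_mul, ← h, hgv]
    ring
  · rintro ⟨c, hc⟩
    have hcr : c ∈ regStalk X y := by
      rw [regStalk_eq_nonZeroDivisors]
      exact (mul_mem_nonZeroDivisors.mp (hc ▸ hα)).2
    refine ⟨⟨c, hcr⟩, ?_⟩
    rw [hg]
    congr 1
    refine Units.ext ?_
    rw [IsUnit.unit_spec]
    have hβ : β ∈ regStalk X y := by
      rw [regStalk_eq_nonZeroDivisors]
      exact (mul_mem_nonZeroDivisors.mp (hc ▸ hα)).1
    refine (IsLocalization.map_units (KStalk X y) ⟨β, hβ⟩).mul_left_injective ?_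
    simp only
    rw [h, hc, ← map_mul, mul_comm]

/-- If a divisor is not effective at `x`, it fails to be effective at some generisation of `x` of
depth one. -/
theorem exists_depth_one_of_not_effectiveAt [IsLocallyNoetherian X] (D : Divisor X) {x : X}
    (hx : ¬ IsEffectiveAt D x) :
    ∃ y, y ⤳ x ∧ LocCoh.depth (X.presheaf.stalk y) (X.presheaf.stalk y) = 1 ∧
      ¬ IsEffectiveAt D y := by
  obtain ⟨V, hxV, ⟨a, ha⟩, ⟨b, hb⟩, h⟩ := exists_quotient_rep D x
  obtain ⟨U, hU, hxU, hle⟩ := exists_isAffineOpen_mem_and_subset hxV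
  have hUV : U ≤ V := fun z hz => hle hz
  set a' := X.presheaf.map (homOfLE hUV).op a with ha'
  set b' := X.presheaf.map (homOfLE hUV).op b with hb'
  set J : Ideal Γ(X, U) := (Ideal.span {b'}).colon {a'} with hJ
  have hmem : ∀ r, r ∈ J ↔ b' ∣ r * a' := fun r => by
    rw [hJ, Submodule.mem_colon_singleton, smul_eq_mul, Ideal.mem_span_singleton]
  have crit : ∀ y (hy : y ∈ U), IsEffectiveAt D y ↔
      X.presheaf.germ U y hy b' ∣ X.presheaf.germ U y hy a' := by
    intro y hy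
    obtain ⟨g, hg, hgab⟩ := h y (hUV hy)
    simp only [ha', hb', TopCat.Presheaf.germ_res_apply]
    exact isEffectiveAt_iff_dvd D (ha ⟨y, hUV hy⟩) hg hgab
  have hdvd : ∀ y (hy : y ∈ U), (X.presheaf.germ U y hy b' ∣ X.presheaf.germ U y hy a') ↔
      ¬ J ≤ (hU.primeIdealOf ⟨y, hy⟩).asIdeal := by
    intro y hy
    let algy := X.presheaf.algebra_section_stalk ⟨y, hy⟩
    haveI := hU.isLocalization_stalk ⟨y, hy⟩
    change algebraMap Γ(X, U) (X.presheaf.stalk y) b' ∣ algebraMap Γ(X, U) _ a' ↔ _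
    rw [← Ideal.mem_span_singleton, ← Set.image_singleton, ← Ideal.map_span,
      IsLocalization.algebraMap_mem_map_algebraMap_iff
        (hU.primeIdealOf ⟨y, hy⟩).asIdeal.primeCompl, SetLike.not_le_iff_exists]
    exact exists_congr fun r => by
      rw [hmem, Ideal.mem_span_singleton, Ideal.mem_primeCompl_iff, and_comm]
  have hJle : J ≤ (hU.primeIdealOf ⟨x, hxU⟩).asIdeal := by
    by_contra hc
    exact hx ((crit x hxU).mpr ((hdvd x hxU).mpr hc))
  obtain ⟨q, hq, hqle⟩ := Ideal.exists_minimalPrimes_le hJle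
  haveI : q.IsPrime := hq.1.1
  obtain ⟨y, hy, rfl⟩ := exists_point_of_prime hU q
  have hny : ¬ IsEffectiveAt D y := fun he => (hdvd y hy).mp ((crit y hy).mp he) hq.1.2
  refine ⟨y, (specializes_iff_primeIdealOf hU hxU hy).mpr hqle, ?_, hny⟩
  let algy := X.presheaf.algebra_section_stalk ⟨y, hy⟩
  haveI := hU.isLocalization_stalk ⟨y, hy⟩
  have hbreg : X.presheaf.germ U y hy b' ∈ nonZeroDivisors (X.presheaf.stalk y) := by
    rw [hb', TopCat.Presheaf.germ_res_apply]
    exact hb ⟨y, hUV hy⟩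
  refine depth_eq_one_of_radical_colon (b := X.presheaf.germ U y hy b')
    (a := X.presheaf.germ U y hy a')
    (fun u v huv => (mul_cancel_left_mem_nonZeroDivisors hbreg).mp huv) ?_ ?_
  · intro hu
    exact hny ((crit y hy).mpr hu.dvd)
  · have hrad := (radical_map_eq_maximalIdeal_iff (S := X.presheaf.stalk y) _ J).mpr hq
    refine le_antisymm ?_ ?_
    · rw [(IsLocalRing.maximalIdeal.isMaximal (X.presheaf.stalk y)).isPrime.radical_le_iff]
      refine IsLocalRing.le_maximalIdeal fun htop => hny ((crit y hy).mpr ?_)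
      have h1 : (1 : X.presheaf.stalk y) ∈
          (Ideal.span {X.presheaf.germ U y hy b'}).colon {X.presheaf.germ U y hy a'} := by
        rw [htop]; trivial
      rwa [Submodule.mem_colon_singleton, one_smul, Ideal.mem_span_singleton] at h1
    · rw [← hrad]
      refine Ideal.radical_mono (Ideal.map_le_iff_le_comap.mpr fun r hr => ?_)
      rw [Ideal.mem_comap, Submodule.mem_colon_singleton, smul_eq_mul, Ideal.mem_span_singleton]
      exact (map_dvd (X.presheaf.germ U y hy).hom ((hmem r).mp hr)).trans (dvd_of_eq (map_mul _ _ _))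

theorem eq_one_of_effective_both [IsLocallyNoetherian X] (D : Divisor X) {x : X}
    (h : IsEffectiveAt D x) (h' : IsEffectiveAt D⁻¹ x) : D.1 x = 1 := by
  obtain ⟨⟨a, ha⟩, hA⟩ := h
  obtain ⟨⟨c, hc⟩, hC⟩ := h'
  have hC' : (D.1 x)⁻¹ =
      QuotientGroup.mk (IsLocalization.map_units (KStalk X x) (⟨c, hc⟩ : regStalk X x)).unit := hC
  rw [hA] at hC'
  rw [← QuotientGroup.mk_inv, QuotientGroup.eq] at hC'
  obtain ⟨v, hv⟩ := hC'
  have hv' : algebraMap _ (KStalk X x) (v : X.presheaf.stalk x) =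
      algebraMap _ (KStalk X x) a * algebraMap _ (KStalk X x) c := by
    have := congrArg Units.val hv
    simpa using this
  rw [← map_mul] at hv'
  have hv2 := algebraMap_KStalk_injective x hv'
  have hau : IsUnit a := isUnit_of_mul_isUnit_left (hv2 ▸ v.isUnit)
  rw [hA, QuotientGroup.eq_one_iff]
  exact ⟨hau.unit, Units.ext rfl⟩

end Groth.Agent.Lib.MeroK.Depth
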