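import Groth.Agent.Lib.MeroK.DivMod

/-!
# Divisors of regular meromorphic sections
-/

universe u

noncomputable section

open CategoryTheory AlgebraicGeometry TopologicalSpace Opposite

namespace Groth.Agent.Lib.MeroK.DivSection

open Groth.Agent.Lib.AssPt.Basic Groth.Agent.Lib.MeroK.Basic Mero
open Groth.Agent.Lib.TensorMod.Dual Groth.Agent.Lib.TensorMod.Gen

variable {X : Scheme.{u}} {L : X.Modules}

/-- Multiplication by a generator of the stalk is injective on meromorphic germs. -/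
theorem smul_mk_injective {U : X.Opens} {e : Γ(L, U)} (he : IsGen L U e) {y : X} (hy : y ∈ U) :
    Function.Injective fun q : KStalk X y =>
      q • (LocalizedModule.mk (L.presheaf.germ U y hy e) 1 : MStalk L y) := by
  intro q q' h
  simp only at h
  rw [← sub_eq_zero, ← sub_smul] at h
  rw [← sub_eq_zero]
  generalize q - q' = z at h ⊢
  induction z using LocalizedModule.induction_on with
  | h c d =>
    change (Localization.mk c d : KStalk X y) • _ = 0 at h
    rw [LocalizedModule.mk_smul_mk] at h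
    obtain ⟨v, hv⟩ := LocalizedModule.mk_eq.mp (h.trans (LocalizedModule.zero_mk 1).symm)
    simp only [smul_zero, one_smul, mul_one, Submonoid.smul_def] at hv
    rw [smul_smul] at hv
    have h0 : (v : X.presheaf.stalk y) * c = 0 :=
      (RegMero.stalk_gen he hy).1 (by simp only [zero_smul]; exact hv)
    rw [(mul_left_mem_nonZeroDivisors_eq_zero_iff (regStalk_le_nonZeroDivisors y v.2)).mp h0]
    exact LocalizedModule.zero_mk d

/-- The class of the coefficient does not depend on the generator. -/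
theorem coeff_class_eq {U U' : X.Opens} {e : Γ(L, U)} {e' : Γ(L, U')} (he : IsGen L U e)
    (he' : IsGen L U' e') {y : X} (hy : y ∈ U) (hy' : y ∈ U') {g g' : (KStalk X y)ˣ}
    (h : (g : KStalk X y) • (LocalizedModule.mk (L.presheaf.germ U y hy e) 1 : MStalk L y) =
      (g' : KStalk X y) • (LocalizedModule.mk (L.presheaf.germ U' y hy' e') 1 : MStalk L y)) :
    (QuotientGroup.mk g : Germ X y) = QuotientGroup.mk g' := by
  obtain ⟨c, hc⟩ := (RegMero.stalk_gen he hy).2 (L.presheaf.germ U' y hy' e')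
  obtain ⟨c', hc'⟩ := (RegMero.stalk_gen he' hy').2 (L.presheaf.germ U y hy e)
  simp only at hc hc'
  have hcc : c' * c = 1 := (RegMero.stalk_gen he hy).1 (by
    simp only [one_smul]
    rw [mul_smul, hc, hc'])
  let w : (X.presheaf.stalk y)ˣ := ⟨c, c', (mul_comm c c').trans hcc, hcc⟩
  have hg : (g : KStalk X y) = g' * algebraMap (X.presheaf.stalk y) (KStalk X y) c := by
    refine smul_mk_injective he hy ?_
    simp only
    rw [h, mul_smul, algebraMap_smul, LocalizedModule.smul'_mk, hc]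
  rw [QuotientGroup.eq]
  refine ⟨w⁻¹, Units.ext ?_⟩
  rw [Units.val_mul]
  have h1 : g⁻¹ * g' = (Units.map (algebraMap (X.presheaf.stalk y) (KStalk X y)).toMonoidHom w)⁻¹ := by
    rw [eq_inv_iff_mul_eq_one]
    refine Units.ext ?_
    simp only [Units.val_mul, Units.coe_map, RingHom.toMonoidHom_eq_coe, MonoidHom.coe_coe,
      Units.val_one]
    rw [mul_assoc]
    exact (congrArg _ hg.symm).trans (Units.inv_mul g)
  rw [← Units.val_mul, h1, map_inv]

/-- Fractions as meromorphic functions. -/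
def frac {W : X.Opens} (a : Γ(X, W)) (b : regSub X W) : Γ(kmod X, W) :=
  ⟨fun y => LocalizedModule.mk (X.presheaf.germ W y.1 y.2 a) (regGerm y b),
    fun x => ⟨W, x.2, 𝟙 _, a, b, fun _ => rfl⟩⟩

theorem frac_mul_frac {W : X.Opens} (a b : regSub X W) : frac a.1 b * frac b.1 a = 1 := by
  refine Subtype.ext (funext fun y => ?_)
  rw [kmod_mul_apply, kmod_one_apply]
  change (LocalizedModule.mk _ _ : KStalk X y.1) * LocalizedModule.mk _ _ = 1
  refine LocalizedModule.mk_mul_mk.trans ?_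
  refine (LocalizedModule.mk_eq.mpr ⟨1, ?_⟩).trans (mk_self_eq_one (1 : regStalk X y.1))
  simp [Submonoid.smul_def, mul_comm]

def fracUnit {W : X.Opens} (a b : regSub X W) : (Γ(kmod X, W))ˣ :=
  ⟨frac a.1 b, frac b.1 a, frac_mul_frac a b, frac_mul_frac b a⟩

/-- A regular meromorphic section is locally a unit times a generator. -/
theorem exists_local_form (hL : PicF.IsInvertible L) {s : Γ(merMod L, ⊤)}
    (hs : IsRegularMero L s) (x : X) :
    ∃ (W : X.Opens) (e : Γ(L, W)) (a b : regSub X W), x ∈ W ∧ IsGen L W e ∧ ∀ y : W,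
      s.1 ⟨y.1, trivial⟩ = (frac a.1 b).1 y •
        (LocalizedModule.mk (L.presheaf.germ W y.1 y.2 e) 1 : MStalk L y.1) := by
  obtain ⟨V, hxV, i, m, b, hsb⟩ := s.2 ⟨x, trivial⟩
  obtain ⟨U, e, hxU, he⟩ := isInvertible_iff.mp hL x
  let W := V ⊓ U
  let e' : Γ(L, W) := rs L inf_le_right e
  have he' : IsGen L W e' := he.res inf_le_right
  obtain ⟨a, ha⟩ := (he' W le_rfl).2 (rs L (inf_le_left : W ≤ V) m)
  simp only at ha
  have hm : ∀ y (hy : y ∈ W), L.presheaf.germ V y hy.1 m =
      X.presheaf.germ W y hy a • L.presheaf.germ W y hy e' := fun y hy => by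
    have h1 := congrArg (L.presheaf.germ W y hy) ha
    simp only [Mero.germ_smul, RegMero.germ_rs] at h1 ⊢
    exact h1.symm
  let b' : regSub X W := ⟨rf inf_le_left b.1, regSub_res _ b.2⟩
  have hform : ∀ y : W, s.1 ⟨y.1, trivial⟩ =
      LocalizedModule.mk (X.presheaf.germ W y.1 y.2 a • L.presheaf.germ W y.1 y.2 e')
        (regGerm y b') := fun y => by
    refine (hsb ⟨y.1, y.2.1⟩).trans (mk_congr (hm y.1 y.2) ?_)
    exact (RegMero.germ_rf (inf_le_left : W ≤ V) y.2 b.1).symm
  have hareg : a ∈ regSub X W := by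
    intro y
    refine Ideal.EffCartier.mem_nonZeroDivisors_of_eq_zero fun c hc => ?_
    refine algebraMap_KStalk_injective y.1 ?_
    rw [map_zero]
    refine hs y.1 _ ?_
    rw [hform y, algebraMap_smul, LocalizedModule.smul'_mk, smul_smul, mul_comm, hc, zero_smul]
    exact LocalizedModule.zero_mk _
  refine ⟨W, e', ⟨a, hareg⟩, b', ⟨hxV, hxU⟩, he', fun y => (hform y).trans ?_⟩
  symm
  change (Localization.mk _ _ : KStalk X y.1) • (LocalizedModule.mk _ 1 : MStalk L y.1) = _
  rw [LocalizedModule.mk_smul_mk, mul_one]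

/-- **An invertible module with a regular meromorphic section is `O_X(D)`**, with `D` the divisor
of the section and the isomorphism division by the section. -/
theorem exists_iso_divMod_spec (hL : PicF.IsInvertible L) {s : Γ(merMod L, ⊤)}
    (hs : IsRegularMero L s) :
    ∃ (D : Divisor X) (i : L ≅ divMod D),
      (∀ (W : X.Opens) (e : Γ(L, W)) (f : (Γ(kmod X, W))ˣ), IsGen L W e →
        (∀ y : W, s.1 ⟨y.1, trivial⟩ = (f : Γ(kmod X, W)).1 y •
          (LocalizedModule.mk (L.presheaf.germ W y.1 y.2 e) 1 : MStalk L y.1)) →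
        ∀ y : W, D.1 y.1 = germOf f y) ∧
      ∀ (V : X.Opens) (m : Γ(L, V)) (y : V),
        (i.hom.app V m).1 y • s.1 ⟨y.1, trivial⟩ =
          (LocalizedModule.mk (L.presheaf.germ V y.1 y.2 m) 1 : MStalk L y.1) := by
  classical
  choose W e a b hxW he hform using exists_local_form hL hs
  let g : ∀ (x : X) (y : W x), (KStalk X y.1)ˣ := fun x y =>
    Units.map (evalK X (W x) y).toMonoidHom (fracUnit (a x) (b x))
  have hg : ∀ x (y : W x), s.1 ⟨y.1, trivial⟩ = (g x y : KStalk X y.1) •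
      (LocalizedModule.mk (L.presheaf.germ (W x) y.1 y.2 (e x)) 1 : MStalk L y.1) := hform
  let D0 : ∀ x : X, Germ X x := fun x => QuotientGroup.mk (g x ⟨x, hxW x⟩)
  have hD0 : ∀ x (y : W x), D0 y.1 = germOf (fracUnit (a x) (b x)) y := fun x y =>
    coeff_class_eq (he y.1) (he x) (hxW y.1) y.2 ((hg y.1 ⟨y.1, hxW y.1⟩).symm.trans (hg x y))
  let D : Divisor X := ⟨D0, fun x => ⟨W x, hxW x, fracUnit (a x) (b x), hD0 x⟩⟩
  refine ⟨D, ?_⟩
  suffices hmain : ∃ i : L ≅ divMod D, ∀ (V : X.Opens) (m : Γ(L, V)) (y : V),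
      (i.hom.app V m).1 y • s.1 ⟨y.1, trivial⟩ =
        (LocalizedModule.mk (L.presheaf.germ V y.1 y.2 m) 1 : MStalk L y.1) by
    obtain ⟨i, hi⟩ := hmain
    refine ⟨i, fun W' e' f hgen hf y => ?_, hi⟩
    exact coeff_class_eq (he y.1) hgen (hxW y.1) y.2
      (g' := Units.map (evalK X W' y).toMonoidHom f) ((hg y.1 ⟨y.1, hxW y.1⟩).symm.trans (hf y))
  have huniq : ∀ (y : X) (t t' : KStalk X y),
      t • s.1 ⟨y, trivial⟩ = t' • s.1 ⟨y, trivial⟩ → t = t' := fun y t t' htt => by
    rw [← sub_eq_zero]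
    exact hs y _ (by rw [sub_smul, htt, sub_self])
  have hex : ∀ (y : X) (z : L.presheaf.stalk y), ∃ t : KStalk X y,
      t • s.1 ⟨y, trivial⟩ = (LocalizedModule.mk z 1 : MStalk L y) := fun y z => by
    obtain ⟨c, rfl⟩ := (RegMero.stalk_gen (he y) (hxW y)).2 z
    refine ⟨algebraMap (X.presheaf.stalk y) (KStalk X y) c * ↑(g y ⟨y, hxW y⟩)⁻¹, ?_⟩
    rw [hg y ⟨y, hxW y⟩, smul_smul, mul_assoc, Units.inv_mul, mul_one, algebraMap_smul,
      LocalizedModule.smul'_mk]
  choose θ hθ using hex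
  have hval : ∀ (x : X) (y : W x) (c : X.presheaf.stalk y.1),
      θ y.1 (c • L.presheaf.germ (W x) y.1 y.2 (e x)) =
        c • (↑(fracUnit (a x) (b x))⁻¹ : Γ(kmod X, W x)).1 y := fun x y c => by
    refine huniq _ _ _ ((hθ _ _).trans ?_)
    rw [DivMod.smul_eq_algebraMap_mul, hg x y, smul_smul, mul_assoc]
    have h1 : (↑(fracUnit (a x) (b x))⁻¹ : Γ(kmod X, W x)).1 y * (g x y : KStalk X y.1) = 1 :=
      congrFun (congrArg Subtype.val (frac_mul_frac (b x) (a x))) y
    rw [h1, mul_one, algebraMap_smul, LocalizedModule.smul'_mk]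
  have hpred : ∀ (V : X.Opens) (m : Γ(L, V)),
      (divLoc X D).pred fun y : V => θ y.1 (L.presheaf.germ V y.1 y.2 m) := by
    intro V m
    refine ⟨fun y => ?_, fun y g' hg' => ?_⟩
    · obtain ⟨r, hr⟩ := (he y.1 (V ⊓ W y.1) inf_le_right).2 (rs L inf_le_left m)
      refine ⟨V ⊓ W y.1, ⟨y.2, hxW y.1⟩, homOfLE inf_le_left,
        r * rf inf_le_right (b y.1).1, ⟨rf inf_le_right (a y.1).1, regSub_res _ (a y.1).2⟩,
        fun z => ?_⟩
      change θ z.1 (L.presheaf.germ V z.1 z.2.1 m) = _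
      have h1 : L.presheaf.germ V z.1 z.2.1 m = X.presheaf.germ (V ⊓ W y.1) z.1 z.2 r •
          L.presheaf.germ (W y.1) z.1 z.2.2 (e y.1) := by
        have := congrArg (L.presheaf.germ (V ⊓ W y.1) z.1 z.2) hr
        simp only [Mero.germ_smul, RegMero.germ_rs] at this
        exact this.symm
      rw [h1, hval y.1 ⟨z.1, z.2.2⟩]
      refine (LocalizedModule.smul'_mk _ _ _).trans (mk_congr ?_ ?_)
      · rw [smul_eq_mul, map_mul, RegMero.germ_rf]
      · exact (RegMero.germ_rf (inf_le_right : V ⊓ W y.1 ≤ W y.1) z.2 (a y.1).1).symm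
    · obtain ⟨c, hc⟩ := (RegMero.stalk_gen (he y.1) (hxW y.1)).2 (L.presheaf.germ V y.1 y.2 m)
      simp only at hc
      change θ y.1 (L.presheaf.germ V y.1 y.2 m) * (g' : KStalk X y.1) ∈ _
      rw [← hc, hval y.1 ⟨y.1, hxW y.1⟩, DivMod.smul_eq_algebraMap_mul, mul_assoc]
      refine mul_mem ⟨c, rfl⟩ ?_
      have h1 : (QuotientGroup.mk (g y.1 ⟨y.1, hxW y.1⟩) : Germ X y.1) = QuotientGroup.mk g' := hg'
      rw [QuotientGroup.eq] at h1
      obtain ⟨w, hw⟩ := h1
      refine ⟨w, ?_⟩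
      have h2 := congrArg Units.val hw
      rw [Units.val_mul, Units.coe_map] at h2
      rw [show (algebraMap (X.presheaf.stalk y.1) (KStalk X y.1)).toMonoidHom ↑w =
        algebraMap (X.presheaf.stalk y.1) (KStalk X y.1) ↑w from rfl] at h2
      rw [h2]
      rfl
  let φfun : ∀ V : X.Opens, Γ(L, V) →+ Γ(divMod D, V) := fun V =>
    { toFun := fun m => ⟨fun y => θ y.1 (L.presheaf.germ V y.1 y.2 m), hpred V m⟩
      map_zero' := Subtype.ext (funext fun y => huniq _ _ _ (by
        change θ y.1 _ • _ = (0 : KStalk X y.1) • _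
        rw [hθ, map_zero, zero_smul]
        exact LocalizedModule.zero_mk 1))
      map_add' := fun m m' => Subtype.ext (funext fun y => huniq _ _ _ (by
        change θ y.1 _ • _ = (θ y.1 _ + θ y.1 _ : KStalk X y.1) • _
        rw [hθ, add_smul, hθ, hθ, map_add, LocalizedModule.mk_add_mk]
        exact mk_congr (by rw [one_smul, one_smul]) (by rw [mul_one]))) }
  let φ : L ⟶ divMod D :=
    ⟨PresheafOfModules.homMk (M₁ := L.val) (M₂ := (divMod D).val)
      { app := fun V => AddCommGrpCat.ofHom (φfun V.unop)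
        naturality := fun {V V'} i => by
          ext m
          refine Subtype.ext (funext fun y => ?_)
          exact congrArg (θ y.1) (TopCat.Presheaf.germ_res_apply' L.presheaf i y.1 y.2 m) }
      (fun V r m => Subtype.ext (funext fun y => huniq _ _ _ (by
        change θ y.1 (L.presheaf.germ V.unop y.1 y.2 (r • m)) • s.1 ⟨y.1, trivial⟩ =
          (X.presheaf.germ V.unop y.1 y.2 r • θ y.1 (L.presheaf.germ V.unop y.1 y.2 m)) •
            s.1 ⟨y.1, trivial⟩
        rw [hθ, smul_assoc, hθ]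
        exact (mk_congr (Mero.germ_smul L _ _ _ r m) rfl).trans
          (LocalizedModule.smul'_mk _ _ _).symm)))⟩
  haveI : IsIso φ := by
    refine (Modules.StalkModule.isIso_iff_stalkMapₗ_bijective φ).mpr fun y => ?_
    obtain ⟨e', he', hev⟩ := DivMod.exists_gen D (fracUnit (a y) (b y)) (hD0 y)
    have hkey : φ.app (W y) (e y) = e' := by
      refine Subtype.ext (funext fun z => ?_)
      change θ z.1 (L.presheaf.germ (W y) z.1 z.2 (e y)) = _
      rw [hev z, ← one_smul (X.presheaf.stalk z.1) (L.presheaf.germ (W y) z.1 z.2 (e y)),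
        hval y z, one_smul]
    refine ((Function.Bijective.of_comp_iff _ (RegMero.stalk_gen (he y) (hxW y))).mp ?_)
    have h1 : (Modules.StalkModule.stalkMapₗ φ y) ∘
        (fun c : X.presheaf.stalk y => c • L.presheaf.germ (W y) y (hxW y) (e y)) =
        fun c => c • (divMod D).presheaf.germ (W y) y (hxW y) e' := by
      funext c
      rw [Function.comp_apply, map_smul, Modules.StalkModule.stalkMapₗ_germ, hkey]
    rw [h1]
    exact RegMero.stalk_gen he' (hxW y)
  exact ⟨asIso φ, fun V m y => hθ y.1 _⟩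

/-- An invertible module with a regular meromorphic section is `O_X(D)`. -/
theorem exists_iso_divMod (hL : PicF.IsInvertible L) (h : HasRegularMero L) :
    ∃ D : Divisor X, Nonempty (L ≅ divMod D) := by
  obtain ⟨s, hs⟩ := h
  obtain ⟨D, i, -⟩ := exists_iso_divMod_spec hL hs
  exact ⟨D, ⟨i⟩⟩

/-- `O_X(D)` has a regular meromorphic section, transported to isomorphic modules. -/
theorem hasRegularMero_of_iso {D : Divisor X} (i : L ≅ divMod D) : HasRegularMero L := by
  classical
  choose U hxU f hf using D.2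
  choose e' he' hev using fun x => DivMod.exists_gen D (f x) (hf x)
  let σ : ∀ (x : X) (y : U x), MStalk L y.1 := fun x y => (f x : Γ(kmod X, U x)).1 y •
    (LocalizedModule.mk (L.presheaf.germ (U x) y.1 y.2 (i.inv.app (U x) (e' x))) 1 : MStalk L y.1)
  have hcan : ∀ (x : X) (y : U x),
      (↑(f x)⁻¹ : Γ(kmod X, U x)).1 y * (f x : Γ(kmod X, U x)).1 y = 1 := fun x y => by
    rw [← kmod_mul_apply, Units.inv_mul, kmod_one_apply]
  have hchar : ∀ (x : X) (y : U x) (V : X.Opens) (hy : y.1 ∈ V) (t : Γ(divMod D, V)),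
      t.1 ⟨y.1, hy⟩ • σ x y =
        (LocalizedModule.mk (L.presheaf.germ V y.1 hy (i.inv.app V t)) 1 : MStalk L y.1) := by
    intro x y V hy t
    obtain ⟨r, hr⟩ := (he' x (V ⊓ U x) inf_le_right).2 (rs (divMod D) inf_le_left t)
    simp only at hr
    have h1 : t.1 ⟨y.1, hy⟩ =
        X.presheaf.germ (V ⊓ U x) y.1 ⟨hy, y.2⟩ r • (↑(f x)⁻¹ : Γ(kmod X, U x)).1 y := by
      rw [← hev x y]
      exact (congrFun (congrArg Subtype.val hr) ⟨y.1, ⟨hy, y.2⟩⟩).symm
    have h2 : rs L inf_le_left (i.inv.app V t) =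
        r • rs L (inf_le_right : V ⊓ U x ≤ U x) (i.inv.app (U x) (e' x)) := by
      have hn1 : i.inv.app (V ⊓ U x) (rs (divMod D) inf_le_left t) =
          rs L inf_le_left (i.inv.app V t) :=
        PresheafOfModules.naturality_apply i.inv.val (homOfLE inf_le_left).op t
      have hn2 : i.inv.app (V ⊓ U x) (rs (divMod D) inf_le_right (e' x)) =
          rs L inf_le_right (i.inv.app (U x) (e' x)) :=
        PresheafOfModules.naturality_apply i.inv.val (homOfLE inf_le_right).op (e' x)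
      rw [← hn1, ← hr, Scheme.Modules.Hom.app_smul, hn2]
    have h3 := congrArg (L.presheaf.germ (V ⊓ U x) y.1 ⟨hy, y.2⟩) h2
    simp only [Mero.germ_smul, RegMero.germ_rs] at h3
    rw [h1, h3]
    simp only [σ]
    rw [smul_smul, DivMod.smul_eq_algebraMap_mul, mul_assoc, hcan, mul_one, algebraMap_smul,
      LocalizedModule.smul'_mk]
  have hσ : ∀ (x x' : X) (y : X) (hy : y ∈ U x) (hy' : y ∈ U x'),
      σ x ⟨y, hy⟩ = σ x' ⟨y, hy'⟩ := fun x x' y hy hy' => by
    have h1 := hchar x ⟨y, hy⟩ (U x') hy' (e' x')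
    rw [hev x' ⟨y, hy'⟩] at h1
    have h2 := congrArg ((f x' : Γ(kmod X, U x')).1 ⟨y, hy'⟩ • ·) h1
    simp only [smul_smul] at h2
    rw [mul_comm, hcan x' ⟨y, hy'⟩, one_smul] at h2
    exact h2
  refine ⟨⟨fun y => σ y.1 ⟨y.1, hxU y.1⟩, fun x => ?_⟩, fun y q hq => ?_⟩
  · obtain ⟨W, hW, hxW, a, b, hab⟩ := exists_rep (f x.1 : Γ(kmod X, U x.1)) ⟨x.1, hxU x.1⟩
    refine ⟨W, hxW, homOfLE le_top,
      a • rs L hW (i.inv.app (U x.1) (e' x.1)), b, fun y => ?_⟩
    change σ y.1 ⟨y.1, hxU y.1⟩ = _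
    rw [hσ y.1 x.1 y.1 (hxU y.1) (hW y.2)]
    have h1 : (f x.1 : Γ(kmod X, U x.1)).1 ⟨y.1, hW y.2⟩ =
        Localization.mk (X.presheaf.germ W y.1 y.2 a) (regGerm y b) := by
      refine (IsLocalization.map_units (KStalk X y.1) (regGerm y b)).mul_left_inj.mp ?_
      exact (hab y.1 y.2).trans (mk_eq_algebraMap_mul _ _).symm
    simp only [σ]
    rw [h1, LocalizedModule.mk_smul_mk, mul_one]
    exact mk_congr (by rw [Mero.germ_smul, RegMero.germ_rs]) rfl
  · change q • σ y ⟨y, hxU y⟩ = 0 at hq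
    simp only [σ] at hq
    rw [smul_smul] at hq
    have hgen : IsGen L (U y) (i.inv.app (U y) (e' y)) := fun V hV => by
      have h2 : (fun r : Γ(X, V) => r • rs L hV (i.inv.app (U y) (e' y))) =
          (i.inv.app V) ∘ fun r : Γ(X, V) => r • rs (divMod D) hV (e' y) := by
        funext r
        rw [Function.comp_apply, Scheme.Modules.Hom.app_smul]
        exact congrArg (r • ·)
          (PresheafOfModules.naturality_apply i.inv.val (homOfLE hV).op (e' y)).symm
      rw [h2]
      exact (ConcreteCategory.bijective_of_isIso (i.inv.app V)).comp (he' y V hV)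
    have h3 : q * (f y : Γ(kmod X, U y)).1 ⟨y, hxU y⟩ = 0 :=
      smul_mk_injective hgen (hxU y) (by simp only [zero_smul]; exact hq)
    have h4 := congrArg (· * (↑(f y)⁻¹ : Γ(kmod X, U y)).1 ⟨y, hxU y⟩) h3
    simp only [zero_mul, mul_assoc] at h4
    rw [mul_comm ((f y : Γ(kmod X, U y)).1 ⟨y, hxU y⟩), hcan y ⟨y, hxU y⟩, mul_one] at h4
    exact h4

end Groth.Agent.Lib.MeroK.DivSection
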