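import Groth.Agent.Lib.MeroK.RegMero
import Groth.Agent.Lib.TensorMod.GenLocal
import Groth.Agent.Lib.TensorMod.QCohInv
import Groth.Agent.Lib.StalkLoc.Basic

/-!
# Extending functions and sections as fractions
-/

universe u

noncomputable section

open CategoryTheory AlgebraicGeometry TopologicalSpace Opposite

namespace Groth.Agent.Lib.MeroK.Extend

open Groth.Agent.Lib.Ideal.EffCartier Groth.Agent.Lib.AssPt.Basic Groth.Agent.Lib.MeroK.Basic Mero
open Groth.Agent.Lib.TensorMod.Dual Groth.Agent.Lib.TensorMod.Gen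

variable {X : Scheme.{u}}

theorem primeIdeal_mem_iff {W : X.Opens} (hW : IsAffineOpen W) {y : X} (hy : y ∈ W) (r : Γ(X, W)) :
    r ∈ (hW.primeIdealOf ⟨y, hy⟩).asIdeal ↔ ¬ IsUnit (X.presheaf.germ W y hy r) := by
  letI := X.presheaf.algebra_section_stalk ⟨y, hy⟩
  haveI := hW.isLocalization_stalk ⟨y, hy⟩
  constructor
  · intro h hu
    exact (IsLocalization.AtPrime.isUnit_to_map_iff (X.presheaf.stalk y) _ r).mp hu h
  · intro h
    by_contra hn
    exact h ((IsLocalization.AtPrime.isUnit_to_map_iff (X.presheaf.stalk y)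
      (hW.primeIdealOf ⟨y, hy⟩).asIdeal r).mpr hn)

/-- A function on an open containing all associated points is a fraction. -/
theorem exists_fraction {W : X.Opens} (hW : IsAffineOpen W)
    (hfin : {y : X | y ∈ W ∧ MaxAssoc (X.presheaf.stalk y)}.Finite) {O : X.Opens} (hOW : O ≤ W)
    (hO : ∀ y ∈ W, MaxAssoc (X.presheaf.stalk y) → y ∈ O) (c : Γ(X, O)) :
    ∃ (a : Γ(X, W)) (b : regSub X W), ∀ y (hy : y ∈ O),
      X.presheaf.germ W y (hOW hy) a =
        X.presheaf.germ W y (hOW hy) b.1 * X.presheaf.germ O y hy c := by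
  classical
  let I : Ideal Γ(X, W) := ⨅ z : {z : W // z.1 ∉ O}, (hW.primeIdealOf z.1).asIdeal
  let P : X → Ideal Γ(X, W) := fun y =>
    if hy : y ∈ W then (hW.primeIdealOf ⟨y, hy⟩).asIdeal else ⊤
  obtain ⟨b, hbI, hb⟩ : ∃ b ∈ I, ∀ y (hy : y ∈ W), MaxAssoc (X.presheaf.stalk y) →
      IsUnit (X.presheaf.germ W y hy b) := by
    by_contra hc
    have hsub : (I : Set Γ(X, W)) ⊆ ⋃ y ∈ (hfin.toFinset : Set X), (P y : Set Γ(X, W)) := by
      intro r hr
      by_contra hr'
      refine hc ⟨r, hr, fun y hy ha => ?_⟩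
      by_contra hu
      refine hr' (Set.mem_iUnion₂.mpr ⟨y, hfin.mem_toFinset.mpr ⟨hy, ha⟩, ?_⟩)
      simp only [P, dif_pos hy, SetLike.mem_coe]
      exact (primeIdeal_mem_iff hW hy r).mpr hu
    by_cases hs : hfin.toFinset = ∅
    · rw [hs] at hsub
      simpa using hsub I.zero_mem
    · obtain ⟨y₀, hy₀⟩ := Finset.nonempty_iff_ne_empty.mpr hs
      obtain ⟨y, hyF, hIy⟩ := (Ideal.subset_union_prime y₀ y₀ (fun i hi _ _ => by
        simp only [P, dif_pos (hfin.mem_toFinset.mp hi).1]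
        exact (hW.primeIdealOf ⟨i, _⟩).isPrime)).1 hsub
      obtain ⟨hy, ha⟩ := hfin.mem_toFinset.mp hyF
      simp only [P, dif_pos hy] at hIy
      obtain ⟨g, hgO, hyg⟩ := hW.exists_basicOpen_le ⟨y, hO y hy ha⟩ hy
      refine (primeIdeal_mem_iff hW hy g).mp (hIy ?_) ((X.mem_basicOpen g y hy).mp hyg)
      simp only [I, Ideal.mem_iInf]
      intro z
      exact (primeIdeal_mem_iff hW z.1.2 g).mpr fun hu =>
        z.2 (hgO ((X.mem_basicOpen g z.1.1 z.1.2).mpr hu))
  have hbO : X.basicOpen b ≤ O := fun z hz => by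
    by_contra hzO
    have hzW : z ∈ W := X.basicOpen_le b hz
    simp only [I, Ideal.mem_iInf] at hbI
    exact (primeIdeal_mem_iff hW hzW b).mp (hbI ⟨⟨z, hzW⟩, hzO⟩) ((X.mem_basicOpen b z hzW).mp hz)
  have hbreg : b ∈ regSub X W := fun x =>
    (germ_nzd_iff_isUnit_maxAssoc b).mpr hb x.1 x.2
  haveI := hW.isLocalization_basicOpen b
  obtain ⟨⟨a, ⟨_, n, rfl⟩⟩, ha⟩ := IsLocalization.surj (Submonoid.powers b)
    (X.presheaf.map (homOfLE hbO).op c)
  refine ⟨a, ⟨b ^ n, pow_mem hbreg n⟩, fun y hy => ?_⟩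
  let t : Γ(X, O) := rf hOW a - rf hOW (b ^ n) * c
  have ht : t = 0 := eq_zero_of_germ_eq_zero_maxAssoc t fun z hz hass => by
    have hzb : z ∈ X.basicOpen b := (X.mem_basicOpen b z (hOW hz)).mpr (hb z (hOW hz) hass)
    have h1 := congrArg (X.presheaf.germ _ z hzb) ha
    simp only [RingHom.algebraMap_toAlgebra, map_mul, map_pow,
      TopCat.Presheaf.germ_res_apply] at h1
    simp only [t, map_sub, map_mul, RegMero.germ_rf, map_pow, sub_eq_zero]
    rw [← h1, mul_comm]
  have h2 := congrArg (X.presheaf.germ O y hy) ht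
  simp only [t, map_sub, map_mul, RegMero.germ_rf, map_zero, sub_eq_zero] at h2
  exact h2

/-- A generator on an open containing the associated points gives a regular meromorphic section. -/
theorem hasRegularMero_of_section {L : X.Modules} (hL : PicF.IsInvertible L)
    (hfin : ∀ W : X.Opens, IsAffineOpen W →
      {y : X | y ∈ W ∧ MaxAssoc (X.presheaf.stalk y)}.Finite)
    {V : X.Opens} (hV : ∀ y : X, MaxAssoc (X.presheaf.stalk y) → y ∈ V) {t : Γ(L, V)}
    (ht : IsGen L V t) : HasRegularMero L := by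
  classical
  let g : ∀ y : X, L.presheaf.stalk y := fun y =>
    if hy : y ∈ V then L.presheaf.germ V y hy t else 0
  have hg : ∀ y (hy : y ∈ V), g y = L.presheaf.germ V y hy t := fun y hy => dif_pos hy
  refine RegMero.hasRegularMero_of_reps (g := g) hL (fun y hy => ?_) fun x => ?_
  · rw [hg y (hV y hy)]
    exact (RegMero.stalk_gen ht (hV y hy)).1
  obtain ⟨U, e, hxU, he⟩ := isInvertible_iff.mp hL x
  obtain ⟨W, hW, hxW, hle⟩ := exists_isAffineOpen_mem_and_subset hxU
  have hWU : W ≤ U := fun z hz => hle hz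
  obtain ⟨c, hc⟩ := ((he.res hWU) (W ⊓ V) inf_le_left).2 (rs L inf_le_right t)
  obtain ⟨a, b, hab⟩ := exists_fraction hW (hfin W hW) (inf_le_left : W ⊓ V ≤ W)
    (fun y hy ha => ⟨hy, hV y ha⟩) c
  refine ⟨⟨W, hxW, a • rs L hWU e, b, fun y hy hass => ?_⟩⟩
  have hyO : y ∈ W ⊓ V := ⟨hy, hV y hass⟩
  have h1 := congrArg (L.presheaf.germ (W ⊓ V) y hyO) hc
  simp only [Mero.germ_smul, RegMero.germ_rs] at h1 ⊢
  rw [hab y hyO, hg y hyO.2, mul_smul, h1]

/-- Near finitely many points of an affine open an invertible module has a generator. -/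
theorem exists_gen_near_finset {L : X.Modules} (hL : PicF.IsInvertible L) {W : X.Opens}
    (hW : IsAffineOpen W) (F : Finset X) (hF : ∀ y ∈ F, y ∈ W) :
    ∃ (V : X.Opens) (t : Γ(L, V)), (∀ y ∈ F, y ∈ V) ∧ IsGen L V t := by
  classical
  haveI : L.IsQuasicoherent := Groth.Agent.Lib.TensorMod.QCohInv.isQCoh_of_isInvertible hL
  let P : F → Ideal Γ(X, W) := fun i => (hW.primeIdealOf ⟨i.1, hF i.1 i.2⟩).asIdeal
  let M : Finset F := Finset.univ.filter fun i => ∀ j, P i ≤ P j → P j ≤ P i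
  let Mp : Finset (Ideal Γ(X, W)) := M.image P
  have hT : ∀ i : F, ∃ t : Γ(L, W),
      Function.Bijective fun a : X.presheaf.stalk i.1 =>
        a • L.presheaf.germ W i.1 (hF i.1 i.2) t := by
    intro i
    obtain ⟨U, e, hiU, he⟩ := isInvertible_iff.mp hL i.1
    letI := X.presheaf.algebra_section_stalk ⟨i.1, hF i.1 i.2⟩
    letI := StalkLoc.Basic.moduleSections L (hF i.1 i.2)
    haveI := StalkLoc.Basic.isScalarTower_sections L (hF i.1 i.2)
    haveI := hW.isLocalization_stalk ⟨i.1, hF i.1 i.2⟩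
    haveI := StalkLoc.Basic.isLocalizedModule_germ (M := L) hW (hF i.1 i.2)
    obtain ⟨⟨t, s⟩, hts⟩ := IsLocalizedModule.surj (P i).primeCompl
      (StalkLoc.Basic.germₗ L (hF i.1 i.2)) (L.presheaf.germ U i.1 hiU e)
    refine ⟨t, ?_⟩
    change s • _ = L.presheaf.germ W i.1 (hF i.1 i.2) t at hts
    rw [← hts, Submonoid.smul_def,
      ← algebraMap_smul (X.presheaf.stalk i.1) (s : Γ(X, W))]
    have hu := IsLocalization.map_units (X.presheaf.stalk i.1) s
    simp only [smul_smul]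
    exact (RegMero.stalk_gen he hiU).comp (IsUnit.isUnit_iff_mulRight_bijective.1 hu)
  choose tt htt using hT
  have hA : ∀ p ∈ Mp, ∃ a : Γ(X, W), a ∉ p ∧ ∀ q ∈ Mp, q ≠ p → a ∈ q := by
    intro p hp
    have hq : ∀ q ∈ Mp.erase p, ∃ a ∈ q, a ∉ p := by
      intro q hqe
      obtain ⟨hne, hqM⟩ := Finset.mem_erase.mp hqe
      obtain ⟨i, hi, rfl⟩ := Finset.mem_image.mp hp
      obtain ⟨j, hj, rfl⟩ := Finset.mem_image.mp hqM
      by_contra hc
      push Not at hc
      exact hne (le_antisymm hc ((Finset.mem_filter.mp hj).2 i hc))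
    choose a ha hap using hq
    obtain ⟨i, -, hip⟩ := Finset.mem_image.mp hp
    haveI : p.IsPrime := hip ▸ (hW.primeIdealOf _).isPrime
    refine ⟨∏ q ∈ (Mp.erase p).attach, a q.1 q.2, fun h => ?_, fun q hq hne => ?_⟩
    · obtain ⟨q, -, hq⟩ := (‹p.IsPrime›.prod_mem_iff).mp h
      exact hap q.1 q.2 hq
    · exact Ideal.prod_mem (I := q) (Finset.mem_attach _ ⟨q, Finset.mem_erase.mpr ⟨hne, hq⟩⟩)
        (ha q (Finset.mem_erase.mpr ⟨hne, hq⟩))
  choose aa haa haa' using hA
  have hrepr : ∀ p ∈ Mp, ∃ i : F, P i = p := fun p hp => by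
    obtain ⟨i, -, hi⟩ := Finset.mem_image.mp hp; exact ⟨i, hi⟩
  choose rp hrp using hrepr
  let T : Γ(L, W) := ∑ q ∈ Mp.attach, aa q.1 q.2 • tt (rp q.1 q.2)
  let good : Set X := {y | ∃ hy : y ∈ W,
    Function.Bijective fun a : X.presheaf.stalk y => a • L.presheaf.germ W y hy T}
  have hcoef : ∀ {U : X.Opens} {e : Γ(L, U)}, IsGen L U e → ∀ {y : X} (hy : y ∈ U)
      (c : X.presheaf.stalk y),
      (Function.Bijective fun a : X.presheaf.stalk y => a • (c • L.presheaf.germ U y hy e)) ↔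
        IsUnit c := by
    intro U e he y hy c
    simp only [smul_smul]
    rw [IsUnit.isUnit_iff_mulRight_bijective]
    exact ⟨fun h => (Function.Bijective.of_comp_iff' (RegMero.stalk_gen he hy) _).mp h,
      fun h => (RegMero.stalk_gen he hy).comp h⟩
  have hgood : IsOpen good := by
    refine isOpen_iff_forall_mem_open.mpr fun y ⟨hy, hyb⟩ => ?_
    obtain ⟨U, e, hyU, he⟩ := isInvertible_iff.mp hL y
    obtain ⟨c, hc⟩ := (he (W ⊓ U) inf_le_right).2 (rs L inf_le_left T)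
    have hgc : ∀ z (hz : z ∈ W ⊓ U), L.presheaf.germ W z hz.1 T =
        X.presheaf.germ (W ⊓ U) z hz c • L.presheaf.germ U z hz.2 e := fun z hz => by
      have := congrArg (L.presheaf.germ (W ⊓ U) z hz) hc
      simp only [Mero.germ_smul, RegMero.germ_rs] at this
      exact this.symm
    refine ⟨X.basicOpen c, fun z hz => ?_, (X.basicOpen c).isOpen, ?_⟩
    · have hzO := X.basicOpen_le c hz
      refine ⟨hzO.1, ?_⟩
      rw [hgc z hzO]
      exact (hcoef he hzO.2 _).mpr ((X.mem_basicOpen c z hzO).mp hz)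
    · refine (X.mem_basicOpen c y ⟨hy, hyU⟩).mpr ((hcoef he hyU _).mp ?_)
      rw [← hgc y ⟨hy, hyU⟩]
      exact hyb
  let V : X.Opens := ⟨good, hgood⟩
  have hVW : V ≤ W := fun y hy => hy.1
  refine ⟨V, rs L hVW T, fun y hy => ?_, ?_⟩
  · obtain ⟨m, hle, hm⟩ := (Finset.univ.image P).exists_le_maximal
      (Finset.mem_image_of_mem P (Finset.mem_univ (⟨y, hy⟩ : F)))
    obtain ⟨i, -, rfl⟩ := Finset.mem_image.mp hm.1
    have hiM : P i ∈ Mp := Finset.mem_image_of_mem P (Finset.mem_filter.mpr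
      ⟨Finset.mem_univ i, fun j hij => hm.2 (Finset.mem_image_of_mem P (Finset.mem_univ j)) hij⟩)
    let k := rp (P i) hiM
    have hk : P k = P i := hrp _ hiM
    have hbest : k.1 ∈ good := by
      refine ⟨hF k.1 k.2, ?_⟩
      obtain ⟨U, e, hkU, he⟩ := isInvertible_iff.mp hL k.1
      have hd := fun q : Mp =>
        (RegMero.stalk_gen he hkU).2 (L.presheaf.germ W k.1 (hF k.1 k.2) (tt (rp q.1 q.2)))
      choose d hd using hd
      simp only at hd
      have hTd : L.presheaf.germ W k.1 (hF k.1 k.2) T =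
          (∑ q ∈ Mp.attach, X.presheaf.germ W k.1 (hF k.1 k.2) (aa q.1 q.2) * d q) •
            L.presheaf.germ U k.1 hkU e := by
        simp only [T, map_sum, Mero.germ_smul, Finset.sum_smul, mul_smul]
        exact Finset.sum_congr rfl fun q _ => by rw [hd q]
      rw [hTd]
      refine (hcoef he hkU _).mpr ?_
      rw [← IsLocalRing.residue_ne_zero_iff_isUnit, map_sum,
        Finset.sum_eq_single (⟨P i, hiM⟩ : Mp)]
      · rw [IsLocalRing.residue_ne_zero_iff_isUnit]
        refine IsUnit.mul ?_ ?_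
        · by_contra hu
          exact haa (P i) hiM (hk.le ((primeIdeal_mem_iff hW (hF k.1 k.2) _).mpr hu))
        · refine (hcoef he hkU _).mp ?_
          rw [hd]
          exact htt k
      · intro q _ hne
        refine (IsLocalRing.residue_eq_zero_iff _).mpr (Ideal.mul_mem_right _ _ ?_)
        refine (primeIdeal_mem_iff hW (hF k.1 k.2) _).mp ?_
        exact hk.ge (haa' q.1 q.2 (P i) hiM fun h => hne (Subtype.ext h.symm))
      · intro h
        exact absurd (Finset.mem_attach _ _) h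
    refine ((specializes_iff_primeIdealOf hW (hF k.1 k.2) (hF y hy)).mpr ?_).mem_open hgood hbest
    exact hle.trans hk.ge
  · refine TensorMod.GenLocal.isGen_of_forall_exists fun y hy => ?_
    obtain ⟨U, e, hyU, he⟩ := isInvertible_iff.mp hL y
    obtain ⟨c, hc⟩ := (he (V ⊓ U) inf_le_right).2 (rs L (inf_le_left.trans hVW) T)
    simp only at hc
    refine ⟨V ⊓ U, inf_le_left, ⟨hy, hyU⟩, ?_⟩
    rw [rs_rs, ← hc]
    refine TensorMod.GenLocal.isGen_smul (he.res inf_le_right) ?_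
    refine X.toRingedSpace.isUnit_of_isUnit_germ (V ⊓ U) c fun z hz => ?_
    obtain ⟨hzW, hzb⟩ := hz.1
    refine (hcoef he hz.2 _).mp ?_
    have h1 := congrArg (L.presheaf.germ (V ⊓ U) z hz) hc
    simp only [Mero.germ_smul, RegMero.germ_rs] at h1
    rw [show X.toRingedSpace.presheaf.germ (V ⊓ U) z hz c = X.presheaf.germ (V ⊓ U) z hz c from rfl,
      h1]
    exact hzb

/-- A function on an open containing the associated points extends to a meromorphic function. -/
theorem exists_kmod_extend {U V : X.Opens} (hVU : V ≤ U)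
    (hfin : ∀ W : X.Opens, IsAffineOpen W → W ≤ U →
      {y : X | y ∈ W ∧ MaxAssoc (X.presheaf.stalk y)}.Finite)
    (hV : ∀ y ∈ U, MaxAssoc (X.presheaf.stalk y) → y ∈ V) (g : Γ(X, V)) :
    ∃ s : Γ(kmod X, U), (kmod X).presheaf.map (homOfLE hVU).op s = toK X V g := by
  classical
  have hex : ∀ x : U, ∃ (W : X.Opens) (_ : x.1 ∈ W) (_ : W ≤ U) (a : Γ(X, W)) (b : regSub X W),
      ∀ y (hy : y ∈ W) (hyV : y ∈ V), X.presheaf.germ W y hy a =
        X.presheaf.germ W y hy b.1 * X.presheaf.germ V y hyV g := by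
    intro x
    obtain ⟨W, hW, hxW, hle⟩ := exists_isAffineOpen_mem_and_subset x.2
    have hWU : W ≤ U := fun z hz => hle hz
    obtain ⟨a, b, hab⟩ := exists_fraction hW (hfin W hW hWU) (inf_le_left : W ⊓ V ≤ W)
      (fun y hy ha => ⟨hy, hV y (hWU hy) ha⟩) (rf inf_le_right g)
    refine ⟨W, hxW, hWU, a, b, fun y hy hyV => ?_⟩
    rw [hab y ⟨hy, hyV⟩, RegMero.germ_rf]
  choose W hxW hWU a b hab using hex
  have huniq : ∀ (x x' : U) (y : X) (hy : y ∈ W x) (hy' : y ∈ W x'),
      (LocalizedModule.mk (X.presheaf.germ (W x) y hy (a x)) (regGerm ⟨y, hy⟩ (b x)) :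
        KStalk X y) =
      LocalizedModule.mk (X.presheaf.germ (W x') y hy' (a x')) (regGerm ⟨y, hy'⟩ (b x')) := by
    intro x x' y hy hy'
    rw [LocalizedModule.mk_eq]
    refine ⟨1, ?_⟩
    simp only [one_smul, Submonoid.smul_def, smul_eq_mul]
    let O := W x ⊓ W x'
    let t : Γ(X, O) := rf (inf_le_right : O ≤ W x') (b x').1 * rf inf_le_left (a x) -
      rf (inf_le_left : O ≤ W x) (b x).1 * rf inf_le_right (a x')
    have ht : t = 0 := eq_zero_of_germ_eq_zero_maxAssoc t fun z hz hass => by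
      have hzV : z ∈ V := hV z (hWU x hz.1) hass
      simp only [t, map_sub, map_mul, RegMero.germ_rf, hab x z hz.1 hzV, hab x' z hz.2 hzV]
      ring
    have h2 := congrArg (X.presheaf.germ O y ⟨hy, hy'⟩) ht
    simp only [t, map_sub, map_mul, RegMero.germ_rf, map_zero, sub_eq_zero] at h2
    exact h2
  refine ⟨⟨fun x => LocalizedModule.mk (X.presheaf.germ (W x) x.1 (hxW x) (a x))
    (regGerm ⟨x.1, hxW x⟩ (b x)), fun x => ⟨W x, hxW x, homOfLE (hWU x), a x, b x,
      fun y => huniq ⟨y.1, hWU x y.2⟩ x y.1 _ y.2⟩⟩, Subtype.ext (funext fun y => ?_)⟩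
  change LocalizedModule.mk (X.presheaf.germ (W ⟨y.1, hVU y.2⟩) y.1 _ (a ⟨y.1, hVU y.2⟩))
    (regGerm ⟨y.1, hxW ⟨y.1, hVU y.2⟩⟩ (b ⟨y.1, hVU y.2⟩)) =
      LocalizedModule.mk (X.presheaf.germ V y.1 y.2 g) 1
  rw [LocalizedModule.mk_eq]
  refine ⟨1, ?_⟩
  simp only [one_smul, Submonoid.smul_def, smul_eq_mul]
  exact hab _ y.1 _ y.2

end Groth.Agent.Lib.MeroK.Extend
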