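import Groth.Agent.Lib.MeroK.Affine

/-!
# Locally finite components and maximal points
-/

universe u

open CategoryTheory AlgebraicGeometry TopologicalSpace

namespace Groth.Agent.Lib.MeroK.LocFin

variable {X : Scheme.{u}}

theorem closure_mem_irreducibleComponents {y : X} (hy : ∀ z : X, z ⤳ y → z = y) :
    closure ({y} : Set X) ∈ irreducibleComponents X := by
  refine ⟨isIrreducible_singleton.closure, fun Z hZ hle => ?_⟩
  intro z hz
  have hg := hZ.closure.isGenericPoint_genericPoint isClosed_closure
  have h1 : hZ.closure.genericPoint ⤳ y :=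
    hg.specializes (subset_closure (hle (subset_closure rfl)))
  have h2 := hy _ h1
  rw [h2] at hg
  exact hg.symm ▸ subset_closure hz

theorem finite_maximalPoints_of_locallyFinite
    (hX : ∀ x : X, ∃ W : X.Opens, x ∈ W ∧
      {Z : Set X | Z ∈ irreducibleComponents X ∧ (Z ∩ (W : Set X)).Nonempty}.Finite)
    {U : X.Opens} (hU : IsAffineOpen U) :
    {y : X | y ∈ U ∧ ∀ z : X, z ⤳ y → z = y}.Finite := by
  choose W hxW hfin using hX
  obtain ⟨T, hT⟩ := hU.isCompact.elim_finite_subcover (fun x => (W x : Set X))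
    (fun x => (W x).isOpen) (fun x _ => Set.mem_iUnion.mpr ⟨x, hxW x⟩)
  refine Set.Finite.of_finite_image (f := fun y : X => closure ({y} : Set X)) ?_ ?_
  · refine ((T.finite_toSet.biUnion fun x _ => hfin x)).subset ?_
    rintro _ ⟨y, ⟨hy, hmax⟩, rfl⟩
    obtain ⟨x, hxT, hyx⟩ := Set.mem_iUnion₂.mp (hT hy)
    exact Set.mem_iUnion₂.mpr
      ⟨x, hxT, closure_mem_irreducibleComponents hmax, y, subset_closure rfl, hyx⟩
  · rintro y ⟨-, hy⟩ z - h
    have hmem : y ∈ closure ({z} : Set X) := by
      simp only at h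
      rw [← h]; exact subset_closure rfl
    exact (hy z (specializes_iff_mem_closure.mpr hmem)).symm

end Groth.Agent.Lib.MeroK.LocFin
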