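import Groth.Agent.Lib.MeroK.DivTensor
import Groth.Agent.H95.ZeroSch
import Groth.Agent.Lib.Ideal.Prime

/-!
# Divisors of zero schemes on integral schemes
-/

universe u

noncomputable section

open CategoryTheory AlgebraicGeometry TopologicalSpace Opposite

namespace Groth.Agent.Lib.MeroK.ZeroDivisor

open Groth.Agent.Lib.MeroK.Basic Mero Groth.Agent.H95
open Groth.Agent.Lib.TensorMod.Dual Groth.Agent.Lib.TensorMod.Gen

variable {X : Scheme.{u}} [IsIntegral X] {L : X.Modules}

theorem mem_regSub_of_ne_zero {U : X.Opens} {a : Γ(X, U)} (ha : a ≠ 0) : a ∈ regSub X U := by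
  intro y
  haveI : Nonempty U := ⟨y⟩
  refine mem_nonZeroDivisors_of_ne_zero fun h0 => ha ?_
  exact germ_injective_of_isIntegral X y.1 y.2 (h0.trans (map_zero _).symm)

theorem coord_mem_regSub (hL : PicF.IsInvertible L) {s : Coh.structureModule X ⟶ L} (hs : s ≠ 0)
    (F : ZeroSch.Frame L) : ZeroSch.coord F (ZeroSch.sv s F.V.1) ∈ regSub X F.V.1 := by
  intro y
  refine mem_regSub_of_ne_zero (fun h0 => ?_) y
  haveI : Nonempty F.V.1 := ⟨y⟩
  refine one_ne_zero (α := Γ(X, F.V.1)) (ZeroSch.smul_sv_injective hL s hs F.V.1 1 ?_)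
  rw [one_smul, ← ZeroSch.coord_smul F (ZeroSch.sv s F.V.1), h0, zero_smul]

/-- The germ class of a regular function. -/
def cls {U : X.Opens} (y : U) (a : regSub X U) : Germ X y.1 :=
  QuotientGroup.mk (IsLocalization.map_units (KStalk X y.1) (regGerm y a)).unit

omit [IsIntegral X] in
theorem cls_mul {U : X.Opens} (y : U) (a b : regSub X U) : cls y (a * b) = cls y a * cls y b := by
  rw [cls, cls, cls, ← QuotientGroup.mk_mul]
  refine congrArg _ (Units.ext ?_)
  simp only [Units.val_mul, IsUnit.unit_spec]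
  rw [← map_mul]
  exact congrArg _ (map_mul (X.presheaf.germ U y.1 y.2).hom a.1 b.1)

/-- Regular functions generating the same ideal at `y` have the same class. -/
theorem cls_eq_of_stalkIdeal {I : X.IdealSheafData} {U U' : X.affineOpens} {y : X} (hy : y ∈ U.1)
    (hy' : y ∈ U'.1) (a : regSub X U.1) (a' : regSub X U'.1)
    (h : I.ideal U = Ideal.span {a.1}) (h' : I.ideal U' = Ideal.span {a'.1}) :
    cls ⟨y, hy⟩ a = cls ⟨y, hy'⟩ a' := by
  have hs := (Ideal.Prime.stalkIdeal_eq I U hy).symm.trans (Ideal.Prime.stalkIdeal_eq I U' hy')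
  rw [h, h', _root_.Ideal.map_span, _root_.Ideal.map_span, Set.image_singleton, Set.image_singleton,
    _root_.Ideal.span_singleton_eq_span_singleton] at hs
  obtain ⟨w, hw⟩ := hs
  rw [cls, cls, QuotientGroup.eq]
  refine ⟨w, ?_⟩
  rw [eq_inv_mul_iff_mul_eq]
  refine Units.ext ?_
  simp only [Units.val_mul, IsUnit.unit_spec, Units.coe_map]
  exact (map_mul _ _ _).symm.trans (congrArg _ hw)

/-- The germ class of a fraction with denominator one. -/
theorem germOf_isUnit_toK {U : X.Opens} {a : Γ(X, U)} (ha : a ∈ regSub X U) (y : U) :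
    germOf (Affine.isUnit_toK ha).unit y = cls y ⟨a, ha⟩ := by
  refine congrArg QuotientGroup.mk (Units.ext ?_)
  rw [IsUnit.unit_spec, Units.coe_map]
  exact toK_eq_algebraMap a y

end Groth.Agent.Lib.MeroK.ZeroDivisor
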